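import Cfsg.Agent.Omega.NO3S.Level.CaseL
import Cfsg.Agent.Omega.Node.NO3SLevel
import Cfsg.Agent.Omega.NO3S.BetaFF.Main
import Cfsg.Agent.Omega.NO3S.Fld.LevEnd

/-!
# The socket `GammaFF` of the leaf NO-3S: the tree (helper781, cut #19713, #21519)

`K₀` = the largest weakly closed subgroup of `S` in all `O₂(R)`, `R ∈ P*(S)`; `X₀ = Ω₁(Z(K₀))`, `M₀ = N_G(K₀)`,
`M_Z = ⟨P*(S)⟩` (`Level/Top.lean`, `ThmD.lean`, `Cut.lean`, `CaseL.lean`).

```
GammaFF
├── (L)   CaseL S P : X₀ = V_P, P ∈ P**; then K₀ = O₂(P), Ω₁(Z(O₂(P))) = V_P, N_G(O₂(P)) ≤ N_G(V_P)  : Ends K CaseLP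
├── (F)   HypG S M_Z                                                                                  : NotFFG K
├── (W)   WSt S P F : no offender on X₀; F a maximal bad subgroup of X₀, W_F ≤ S moves V_P, P ∈ P*(S)
│   ├── (S1)          C_Z(P) ≠ 1 for all active members P of P*(S)                                    : GamRad K
│   ├── (S2), (S3)    C_Z(P) = 1: UNIQ = all R ∈ P*(S) normalise V_P                                  : GamUniq K
│   └── (S5)          P ∈ P**, all R ∈ P*(S) normalise V_P                                            : Ends K FiveP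
├── (C2)  NFRoot S M₀, V_{M_Z} = V_R                                                                  : GamTwo K
└── (G)   CaseG S P : no offender on X₀, no bad subgroup of X₀, V_{M₀} = V_P                          : GamG K
```

`Ends K H` : the FF-ends over the frame `H` (`CaseLP`, `FiveP`) by types: `red : RedH` (the frame `FrB` if `|Z| < |F|`),
`w : WH` (`FullK`), `multiTwo : MultiTwoH`, `multiQ : MultiQH`, `symTwo : SymTwoH`, `symBig : SymBigH`,
`symMany : SymManyH`; `Ends.known`.  Without fields (`|Z| = |F|`) the frame `FrB` is `frB_caseL`, `frB_five` (THEOREM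
BETA-FF(1), helper749).  `redH_caseL` : in the case (L) `RedH` is `C_G(Z) ≤ N_G(R)` (`RedCZL`).
`GamOpen` (the open inputs), `gammaFF_of : GamOpen K → FOneB K → OneB K → MidBF K → FarBF K → NotFFG K → GammaFF K`.
-/

set_option autoImplicit false

namespace Cfsg.Agent.Omega.NO3S

open Subgroup Cfsg Cfsg.Agent.ZN Cfsg.Agent.Omega.MinPar Cfsg.Agent.Omega.Frame Cfsg.Agent.Omega.FrameNOFF
open Cfsg.Agent.Omega.FrameFF (NatOver cv Single Free)
open Cfsg.Agent.Omega.FFThm (NatKM SymKM)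
open Cfsg.Agent.Omega.NoFF.Lines
open Cfsg.Agent.Omega.NO3S.Level
open Cfsg.Agent.Omega.NO3S.Fld (Crd)
open Cfsg.Agent.Omega.NOThreeL.Merge (MZ HypG NotFFG)
open Cfsg.Agent.Omega.NOThreeL.MergeNF (NFRoot)

universe u

/-- A frame for a line. -/
abbrev FrP := ∀ (G : Type u) [Group G] [Finite G], Sylow 2 G → Subgroup G → Prop

section ends

variable (K : Cls.{u}) (H : FrP.{u})

/-- `V_P` natural for `SL₂(F)`, `|Z| < |F|`: the frame `FrB`. -/
def RedH : Prop :=
  ∀ (G : Type u) [Group G] [Finite G], K G → ∀ (S : Sylow 2 G) (P : Subgroup G), H G S P →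
    ∀ (F : Type) [Field F] [Finite F] [CharP F 2], 4 ≤ Nat.card F → Nat.card (zc (S : Subgroup G)) ≠ Nat.card F →
      NatP F (zl (S : Subgroup G) P) P → (∃ B R : Subgroup G, FrB F S P B R) ∨ IsKnownSimple' G

/-- `V_P` natural for `SL₂(F)`: the frame `FrB`. -/
def RedAllH : Prop :=
  ∀ (G : Type u) [Group G] [Finite G], K G → ∀ (S : Sylow 2 G) (P : Subgroup G), H G S P →
    ∀ (F : Type) [Field F] [Finite F] [CharP F 2], 4 ≤ Nat.card F → NatP F (zl (S : Subgroup G) P) P →
      (∃ B R : Subgroup G, FrB F S P B R) ∨ IsKnownSimple' G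

/-- `V_P` natural for `SL₂(F)`: `FullK`, given (F1). -/
def WH : Prop :=
  ∀ (G : Type u) [Group G] [Finite G], K G → ∀ (S : Sylow 2 G) (P : Subgroup G), H G S P →
    ∀ (F : Type) [Field F] [Finite F] [CharP F 2], 4 ≤ Nat.card F → NatP F (zl (S : Subgroup G) P) P →
      ∀ B R : Subgroup G, FrB F S P B R →
        ¬ PT.kx (zl (S : Subgroup G) P) R ≤ centralizer (zl (S : Subgroup G) P : Set G) → ∀ (n : ℕ) (y : G), 2 ≤ n →
          Crit R (normalizer (R : Set G)) {P} n 1 y → FullK (zl (S : Subgroup G) P) R ∨ IsKnownSimple' G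

/-- `k ≥ 2` natural `SL₂(2)`-modules. -/
def MultiTwoH : Prop :=
  ∀ (G : Type u) [Group G] [Finite G], K G → ∀ (S : Sylow 2 G) (P : Subgroup G), H G S P →
    ∀ (F : Type) [Field F] [Finite F] [CharP F 2] (k : ℕ), 2 ≤ k → Nat.card F = 2 →
      NatKM F (S : Subgroup G) P (zl (S : Subgroup G) P) (cv (S : Subgroup G) P) k → IsKnownSimple' G

/-- `k ≥ 2` natural `SL₂(q)`-modules, `q ≥ 4`. -/
def MultiQH : Prop :=
  ∀ (G : Type u) [Group G] [Finite G], K G → ∀ (S : Sylow 2 G) (P : Subgroup G), H G S P →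
    ∀ (F : Type) [Field F] [Finite F] [CharP F 2] (k : ℕ), 2 ≤ k → 4 ≤ Nat.card F →
      NatKM F (S : Subgroup G) P (zl (S : Subgroup G) P) (cv (S : Subgroup G) P) k → IsKnownSimple' G

/-- The even-subset module of `S₅`. -/
def SymTwoH : Prop :=
  ∀ (G : Type u) [Group G] [Finite G], K G → ∀ (S : Sylow 2 G) (P : Subgroup G), H G S P →
    SymKM (S : Subgroup G) P (zl (S : Subgroup G) P) (cv (S : Subgroup G) P) 1 2 → IsKnownSimple' G

/-- The even-subset module of `S_{2^m+1}`, `m ≥ 3`. -/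
def SymBigH : Prop :=
  ∀ (G : Type u) [Group G] [Finite G], K G → ∀ (S : Sylow 2 G) (P : Subgroup G), H G S P → ∀ m : ℕ, 3 ≤ m →
    SymKM (S : Subgroup G) P (zl (S : Subgroup G) P) (cv (S : Subgroup G) P) 1 m → IsKnownSimple' G

/-- `k ≥ 2` even-subset modules. -/
def SymManyH : Prop :=
  ∀ (G : Type u) [Group G] [Finite G], K G → ∀ (S : Sylow 2 G) (P : Subgroup G), H G S P →
    ∀ k m : ℕ, 2 ≤ k → 2 ≤ m →
      SymKM (S : Subgroup G) P (zl (S : Subgroup G) P) (cv (S : Subgroup G) P) k m → IsKnownSimple' G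

end ends

/-- **The FF-ends over a frame.** -/
structure Ends (K : Cls.{u}) (H : FrP.{u}) : Prop where
  red : RedH K H
  w : WH K H
  multiTwo : MultiTwoH K H
  multiQ : MultiQH K H
  symTwo : SymTwoH K H
  symBig : SymBigH K H
  symMany : SymManyH K H

/-- The case (L). -/
def CaseLP : FrP.{u} := fun _ _ _ S P => CaseL S P

/-- The case (S5): some `W_F ≤ S` moves `V_P`, `P ∈ P**`, and all `R ∈ P*(S)` normalise `V_P`. -/
def FiveP : FrP.{u} := fun G _ _ S P =>
  PSS (S : Subgroup G) P ∧ (∃ F, WSt S P F) ∧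
    (∀ R, IsParS (S : Subgroup G) R → R ≤ normalizer (zl (S : Subgroup G) P : Set G)) ∧
    zl (S : Subgroup G) (MZ (S : Subgroup G)) = zl (S : Subgroup G) P

section sockets

variable (K : Cls.{u})

/-- **(S1)**: all active members have `C_Z(P) ≠ 1`. Paper: helper198 #20829, 335 #21537, #21629, 283 #20415. -/
def GamRad : Prop :=
  ∀ (G : Type u) [Group G] [Finite G], K G → ∀ (S : Sylow 2 G) (P F : Subgroup G), WSt S P F →
    (∀ R F' : Subgroup G, WSt S R F' → zc (S : Subgroup G) ⊓ centralizer (R : Set G) ≠ ⊥) → IsKnownSimple' G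

/-- **(S2), (S3), UNIQ**: an active member with `C_Z(P) = 1`: `V_P` is FF and all members of `P*(S)` normalise `V_P`.
Paper: helper424 #21003, 422 #21271, 800, 793, 284 #21569. -/
def GamUniq : Prop :=
  ∀ (G : Type u) [Group G] [Finite G], K G → ∀ (S : Sylow 2 G) (P F : Subgroup G), WSt S P F →
    zc (S : Subgroup G) ⊓ centralizer (P : Set G) = ⊥ →
      (FFMod (S : Subgroup G) P ∧
        ∀ R, IsParS (S : Subgroup G) R → R ≤ normalizer (zl (S : Subgroup G) P : Set G)) ∨ IsKnownSimple' G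

/-- **(C2)**. Paper: helper706 #20287, 194 #20969, 235 #20914. -/
def GamTwo : Prop :=
  ∀ (G : Type u) [Group G] [Finite G], K G → ∀ S : Sylow 2 G, W0 S → NFRoot (S : Subgroup G) (M0 (S : Subgroup G)) →
    ∀ R : Subgroup G, PSS (S : Subgroup G) R →
      zl (S : Subgroup G) (MZ (S : Subgroup G)) = zl (S : Subgroup G) R → IsKnownSimple' G

/-- **(G)** = (S4). Paper: helper826 #20856, 577 #20925. -/
def GamG : Prop :=
  ∀ (G : Type u) [Group G] [Finite G], K G → ∀ (S : Sylow 2 G) (P : Subgroup G), CaseG S P → IsKnownSimple' G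

/-- `C_G(Z) ≤ N_G(R)` in the case (L), `|Z| < |F|`. -/
def RedCZL : Prop :=
  ∀ (G : Type u) [Group G] [Finite G], K G → ∀ (S : Sylow 2 G) (P : Subgroup G), CaseL S P →
    ∀ (F : Type) [Field F] [Finite F] [CharP F 2], 4 ≤ Nat.card F → Nat.card (zc (S : Subgroup G)) ≠ Nat.card F →
      ∀ M : Crd F (S : Subgroup G) P (zl (S : Subgroup G) P), CZ (S : Subgroup G) ≤ normalizer (M.R : Set G) ∨
        IsKnownSimple' G

end sockets

/-- **The open inputs of `GammaFF`.** -/
structure GamOpen (K : Cls.{u}) : Prop where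
  l : Ends K CaseLP
  rad : GamRad K
  uniq : GamUniq K
  five : Ends K FiveP
  two : GamTwo K
  g : GamG K

section frames

variable {G : Type u} [Group G] [Finite G] {S : Sylow 2 G} {P : Subgroup G}

/-- The frame in the case (L), from `C_G(Z) ≤ N_G(R)`. -/
theorem frB_caseL_of (h : CaseL S P) {F : Type} [Field F] [Finite F] [CharP F 2]
    (M : Crd F (S : Subgroup G) P (zl (S : Subgroup G) P)) (hCZ : CZ (S : Subgroup G) ≤ normalizer (M.R : Set G)) :
    FrB F S P M.B M.R := by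
  have hG := h.ctx.char2
  obtain ⟨A, hA, hAQ⟩ : ∃ A ∈ BO (S : Subgroup G) (K0 (S : Subgroup G)), ¬ A ≤ o2 P := by
    obtain ⟨A, hAS, hAo⟩ := h.ff P h.pss
    by_contra hcon
    push Not at hcon
    have h1 : nxt (S : Subgroup G) (K0 (S : Subgroup G)) ≤ K0 (S : Subgroup G) := by
      rw [h.K0_eq] at hcon ⊢
      refine sup_le ?_ (sSup_le hcon)
      rw [h.zc_eq, IsParS.inf_centralizer S hG h.pss.par]
    have w : W0 S := { toHypC := h.toHypC, ff := h.ff, nxt := h1 }
    refine w.noOff (A := A) (hAS.trans ((S_le_M0 _).trans (M0_norm _))) ?_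
    rw [h.eq]
    exact hAo
  have hL := Fld.levF hG h.pss.par M h.lev h.K0_eq.le hA hAQ
  have hno := (h.hypN.toHyp.ff FF.Glob.ffthmM (h.ff P h.pss)).1
  obtain ⟨h1, h2, h3⟩ := Fld.frame_lev h.hypN M hL (fun R hR => K0_le_o2 hR) hno hCZ
  exact ⟨h1, h2, M.card_R, h3⟩

/-- The frame in the case (L), `|Z| = |F|`. -/
theorem frB_caseL (h : CaseL S P) {F : Type} [Field F] [Finite F] [CharP F 2]
    (M : Crd F (S : Subgroup G) P (zl (S : Subgroup G) P)) (hZ : Nat.card (zc (S : Subgroup G)) = Nat.card F) :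
    FrB F S P M.B M.R := frB_caseL_of h M (Fld.CZ_le_of_eq' h.hypN.toHyp M hZ)

/-- The frame in the W-stage, `|Z| = |F|`: THEOREM BETA-FF(1). -/
theorem frB_wst {F₀ : Subgroup G} (h : WSt S P F₀) (hN : NonLoc P (CZ (S : Subgroup G))) {F : Type} [Field F]
    [Finite F] [CharP F 2] (hF : 4 ≤ Nat.card F) (M : Crd F (S : Subgroup G) P (zl (S : Subgroup G) P))
    (hZ : Nat.card (zc (S : Subgroup G)) = Nat.card F) : FrB F S P M.B M.R :=
  BetaFF.frB_lev FF.Glob.ffthmM (h.toHypC.hypN h.par hN) h.toW0.lev (fun R hR => K0_le_o2 hR) h.hyp h.WS h.mv M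
    (by omega) hZ

end frames

variable {K : Cls.{u}} {H : FrP.{u}}

/-- All of `red` in the case (L). -/
theorem redAll_caseL (h : RedH K CaseLP) : RedAllH K CaseLP := by
  intro G _ _ hK S P hP F _ _ _ hF N
  by_cases hZ : Nat.card (zc (S : Subgroup G)) = Nat.card F
  · obtain ⟨M⟩ := Fld.exists_crd (CaseL.hypN hP).toHyp N
    exact Or.inl ⟨_, _, frB_caseL hP M hZ⟩
  · exact h G hK S P hP F hF hZ N

/-- In the case (L) `red` is `C_G(Z) ≤ N_G(R)`. -/
theorem redH_caseL (h : RedCZL K) : RedH K CaseLP := by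
  intro G _ _ hK S P hP F _ _ _ hF hZ N
  obtain ⟨M⟩ := Fld.exists_crd (CaseL.hypN hP).toHyp N
  exact (h G hK S P hP F hF hZ M).imp (fun h1 => ⟨_, _, frB_caseL_of hP M h1⟩) id

/-- All of `red` in the case (S5). -/
theorem redAll_five (h : RedH K FiveP) : RedAllH K FiveP := by
  intro G _ _ hK S P hP F _ _ _ hF N
  by_cases hZ : Nat.card (zc (S : Subgroup G)) = Nat.card F
  · obtain ⟨F₀, hw⟩ := hP.2.1
    obtain ⟨M⟩ := Fld.exists_crd (hw.toHypC.hypN hP.1.par hP.1.nonLoc).toHyp N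
    exact Or.inl ⟨_, _, frB_wst hw hP.1.nonLoc hF M hZ⟩
  · exact h G hK S P hP F hF hZ N

/-- **The ends.** -/
theorem Ends.known (E : Ends K H) (h0 : RedAllH K H) (h1 : FOneB K) (h2 : OneB K) (h3 : MidBF K) (h4 : FarBF K)
    {G : Type u} [Group G] [Finite G] (hK : K G) {S : Sylow 2 G} {P : Subgroup G} (h : H G S P) (hF : HypF S P)
    (hff : FFMod (S : Subgroup G) P) : IsKnownSimple' G := by
  obtain ⟨-, ⟨F, _, _, _, k, hk, ⟨M⟩⟩ | ⟨k, m, hk, hm, ⟨M⟩⟩⟩ := hF.toHyp.ff FF.Glob.ffthmM hff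
  · rcases Nat.lt_or_ge k 2 with hk2 | hk2
    · obtain rfl : k = 1 := by omega
      obtain ⟨F, _, _, _, ⟨M⟩⟩ := hF.toHyp.exists_natP M.toNatK.single
      rcases card_field' (F := F) with h5 | h5
      · exact absurd (by rw [M.card, h5]; norm_num) (hF.four P hF.toHyp.pss)
      · rcases h0 G hK S P h F h5 M with ⟨B, R, hB⟩ | h6
        · obtain ⟨n, hn, y, hy⟩ := hB.exists_crit hF.toHyp
          rcases Nat.lt_or_ge n 2 with h4' | h4'
          · obtain rfl : n = 1 := by omega
            exact h2 G hK S P hF F h5 M B R hB y hy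
          rcases h1 G hK S P hF F h5 M B R hB n y (by omega) hy with h7 | h7
          · rcases E.w G hK S P h F h5 M B R hB h7 n y h4' hy with h8 | h8
            · rcases Nat.lt_or_ge n 3 with h9 | h9
              · obtain rfl : n = 2 := by omega
                exact h3 G hK S P hF F h5 M B R hB h8 y hy
              · exact h4 G hK S P hF F h5 M B R hB h8 n y h9 hy
            · exact h8
          · exact h7
        · exact h6
    · rcases card_field' (F := F) with h5 | h5
      · exact E.multiTwo G hK S P h F k hk2 h5 M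
      · exact E.multiQ G hK S P h F k hk2 h5 M
  · rcases Nat.lt_or_ge k 2 with hk2 | hk2
    · obtain rfl : k = 1 := by omega
      rcases Nat.lt_or_ge m 3 with hm2 | hm2
      · obtain rfl : m = 2 := by omega
        exact E.symTwo G hK S P h M
      · exact E.symBig G hK S P h m hm2 M
    · exact E.symMany G hK S P h k m hk2 hm M

/-- `FiveP` from UNIQ. -/
theorem exists_five {G : Type u} [Group G] [Finite G] {S : Sylow 2 G} {P F : Subgroup G} (h : WSt S P F)
    (hff : FFMod (S : Subgroup G) P)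
    (hall : ∀ R, IsParS (S : Subgroup G) R → R ≤ normalizer (zl (S : Subgroup G) P : Set G))
    (hc : (∃ R, PSS (S : Subgroup G) R ∧
        zl (S : Subgroup G) (MZ (S : Subgroup G)) = zl (S : Subgroup G) R) ∨
      (¬ FFMod (S : Subgroup G) (MZ (S : Subgroup G)) ∧
        ¬ zl (S : Subgroup G) (MZ (S : Subgroup G)) ≤ o2 (CZ (S : Subgroup G)))) : ∃ R, FiveP G S R := by
  have hG := h.ctx.char2
  have he : zl (S : Subgroup G) (MZ (S : Subgroup G)) = zl (S : Subgroup G) P := by
    refine le_antisymm (ZN.zl_le ZN.zc_le_zl (sSup_le fun R hR => hall R hR)) ?_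
    exact ZN.zl_le ZN.zc_le_zl (le_trans (le_sSup h.par) (ZN.le_normalizer_zl _ _))
  rcases hc with ⟨R, hR, hRe⟩ | ⟨h1, -⟩
  · have e1 : zl (S : Subgroup G) R = zl (S : Subgroup G) P := hRe.symm.trans he
    have e2 : o2 R = o2 P := by
      rw [← IsParS.inf_centralizer S hG hR.par, ← IsParS.inf_centralizer S hG h.par, e1]
    refine ⟨R, hR, ⟨F, { toW0 := h.toW0, par := hR.par, hyp := h.hyp, WS := h.WS, mv := ?_ }⟩, ?_, hRe⟩
    · rw [e2]; exact h.mv
    · rw [e1]; exact hall
  · refine absurd ?_ h1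
    obtain ⟨A, hA, hAo⟩ := hff
    exact ⟨A, hA, by rw [he]; exact hAo⟩

/-- **`GammaFF`.** -/
theorem gammaFF_of (I : GamOpen K) (h1 : FOneB K) (h2 : OneB K) (h3 : MidBF K) (h4 : FarBF K) (h5 : NotFFG K) :
    GammaFF K := by
  intro G _ _ hK S h hV
  have hff : ∀ P, PSS (S : Subgroup G) P → FFMod (S : Subgroup G) P := fun P hP => (hV P hP).2
  rcases cut' h hff (fun P hP => (hV P hP).1) with ⟨P, hP⟩ | hG | ⟨P, F, hw, hc⟩ | ⟨w, hn, R, hR, he⟩ | ⟨P, hP⟩
  · exact I.l.known (redAll_caseL I.l.red) h1 h2 h3 h4 hK (H := CaseLP) hP hP.hypF (hP.ff P hP.pss)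
  · exact h5 G hK S _ hG
  · by_cases hr : ∀ R F' : Subgroup G, WSt S R F' → zc (S : Subgroup G) ⊓ centralizer (R : Set G) ≠ ⊥
    · exact I.rad G hK S P F hw hr
    · push Not at hr
      obtain ⟨P', F', hw', hz⟩ := hr
      rcases I.uniq G hK S P' F' hw' hz with ⟨hfP, hall⟩ | hk
      · obtain ⟨R, hR⟩ := exists_five hw' hfP hall hc
        exact I.five.known (redAll_five I.five.red) h1 h2 h3 h4 hK (H := FiveP) hR
          { toHypN := h.hypN hR.1.par hR.1.nonLoc, four := fun Q hQ => h.four Q hQ.par hQ.nonLoc } (hff R hR.1)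
      · exact hk
  · exact I.two G hK S w hn R hR he
  · exact I.g G hK S P hP

end Cfsg.Agent.Omega.NO3S
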