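import Cfsg.Agent.Omega.NO3S.Level.Basic
import Cfsg.Agent.Omega.NO3b.Wc.Frame
import Cfsg.Agent.Omega.NO3S.Basic

/-!
# The limit of the levels (helper781, #16560 (0), (5))

* `lev_wc` : the levels are weakly closed in `S`;
* `lim S` : the limit; `nxt_lim`, `cs_lim : C_S(V^!) = lim S`, `VB S = V^!(S) = Ω₁(Z(lim S))` is not FF;
* `zl_le_VB_iff` : `V_P ≤ V^!(S)` iff `lim S ≤ O₂(P)`;
* `exists_lev` : if `V_P ≰ V^!(S)`, then `J(S) ≰ O₂(P)` or there is a level `K ≤ O₂(P)` and a best offender
  `A ≤ S` on `Ω₁(Z(K))` with `A ≰ O₂(P)`; `ffMod_of_not_le` : then `V_P` is an FF-module;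
* `le_norm_lim` : `P ≤ N_G(V^!)` if `V_P ≤ V^!`.
-/

set_option autoImplicit false
set_option linter.unusedSectionVars false

namespace Cfsg.Agent.Omega.NO3S.Level

open Subgroup Cfsg Cfsg.Agent.ZN Cfsg.Agent.ZN.ChoiceBase Cfsg.Agent.Omega.MinPar
open Cfsg.Agent.Omega.NO1.BestOff (Best exists_best)
open Cfsg.Agent.Omega.NO3b.Wc (WC)
open Cfsg.Agent.Omega.NO3b.EZero (NotFF)
open Cfsg.Agent.Omega.FFThm (OffM ElemM)
open Cfsg.Agent.MinSimple.VModule (zc_le le_normalizer_o2 zc_le_zl)

universe u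

variable {G : Type u} [Group G] [Finite G] (S : Sylow 2 G)

theorem wc_jj : WC (S : Subgroup G) (jj (S : Subgroup G)) where
  le := ChoiceBase.jj_le _
  eq := fun g hg => by
    have h1 : jj (S : Subgroup G) ≤ cj g⁻¹ (S : Subgroup G) := cj_le_iff.1 hg
    have h2 := MinSimple.EmptyTI.jj_eq S (isPGroup_cj g⁻¹ S.isPGroup') h1
    rw [jj_cj] at h2
    have h3 := congrArg (cj g) h2
    rw [cj_cj_inv] at h3
    exact h3.symm

variable {S}

theorem wc_nxt {K : Subgroup G} (h : WC (S : Subgroup G) K) : WC (S : Subgroup G) (nxt (S : Subgroup G) K) where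
  le := nxt_le _ _
  eq := fun g hg => by
    have hK : cj g K = K := h.eq g ((cj_mono g (le_nxt h.le)).trans hg)
    have hgK : g ∈ normalizer (K : Set G) := mem_normalizer_iff_cj.2 hK
    have hX : cj g (zc K) = zc K := cj_eq_of_mem_normalizer (normalizer_le_zc K hgK)
    have h1 : cj g (Level.nxt (S : Subgroup G) K) ≤ Level.nxt (S : Subgroup G) K := by
      show Subgroup.map _ _ ≤ _
      rw [Level.nxt, Subgroup.map_sup]
      refine sup_le ?_ ?_
      · refine le_trans ?_ (inf_centralizer_le_nxt _ K)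
        refine le_inf ((cj_mono g (inf_centralizer_le_nxt _ K)).trans hg) ?_
        refine (cj_mono g inf_le_right).trans ?_
        rw [cj_centralizer, hX]
      · rw [Subgroup.map_le_iff_le_comap]
        refine sSup_le fun A hA => ?_
        rw [← Subgroup.map_le_iff_le_comap]
        exact BO.le_nxt (BO.conj hA hgK ((cj_mono g (BO.le_nxt hA)).trans hg))
    exact Subgroup.eq_of_le_of_card_ge h1 (card_cj _ _).ge

theorem lev_wc : ∀ n, WC (S : Subgroup G) (lev (S : Subgroup G) n)
  | 0 => wc_jj S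
  | n + 1 => wc_nxt (lev_wc n)

omit [Finite G] in
theorem lev_const {T : Subgroup G} {n : ℕ} (h : lev T (n + 1) = lev T n) : ∀ m, n ≤ m → lev T m = lev T n := by
  intro m hm
  induction m, hm using Nat.le_induction with
  | base => rfl
  | succ m hm ih =>
    show nxt T (lev T m) = _
    rw [ih]
    exact h

/-- The limit of the levels. -/
noncomputable def lim (S : Subgroup G) : Subgroup G := lev S (Nat.card G)

theorem lev_lim (T : Subgroup G) : lev T (Nat.card G + 1) = lim T := by
  by_contra hne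
  have h1 : ∀ n, n ≤ Nat.card G → lev T n < lev T (n + 1) := by
    intro n hn
    refine lt_of_le_of_ne (lev_le_succ T n) fun h => hne ?_
    rw [lim, lev_const h.symm _ (hn.trans (Nat.le_succ _)), lev_const h.symm _ hn]
  have h2 : ∀ n, n ≤ Nat.card G → n < Nat.card (lev T n) := by
    intro n
    induction n with
    | zero => intro _; exact Nat.card_pos
    | succ n ih =>
      intro hn
      have h3 := ih (by omega)
      have h4 := h1 n (by omega)
      have h5 : Nat.card (lev T n) < Nat.card (lev T (n + 1)) := by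
        refine lt_of_le_of_ne (Subgroup.card_le_of_le h4.le) fun h => h4.ne ?_
        exact Subgroup.eq_of_le_of_card_ge h4.le h.ge
      omega
  have h3 := h2 _ le_rfl
  have h4 : Nat.card (lev T (Nat.card G)) ≤ Nat.card G := Subgroup.card_le_card_group _
  omega

theorem nxt_lim (T : Subgroup G) : nxt T (lim T) = lim T := lev_lim T

theorem isLev_lim (T : Subgroup G) : Lev T (lim T) := lev_isLev T _

theorem lev_le_lim (T : Subgroup G) (n : ℕ) : lev T n ≤ lim T := by
  rcases Nat.lt_or_ge n (Nat.card G) with h | h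
  · exact lev_mono T h.le
  · exact (lev_const (lev_lim T) n h).le

variable (S) in
theorem wc_lim : WC (S : Subgroup G) (lim (S : Subgroup G)) := lev_wc _

/-- `V^!(S)` -/
noncomputable def VB (S : Subgroup G) : Subgroup G := zc (lim S)

/-- `C_S(V^!) = lim S` -/
theorem cs_lim (T : Subgroup G) : T ⊓ centralizer (VB T : Set G) = lim T := by
  refine le_antisymm ?_ (le_inf (isLev_lim T).le (le_centralizer_zc _))
  have h := inf_centralizer_le_nxt T (lim T)
  rwa [nxt_lim] at h

theorem BO.le_centralizer {T A : Subgroup G} (h : A ∈ BO T (lim T)) : A ≤ centralizer (VB T : Set G) := by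
  have h1 := BO.le_nxt h
  rw [nxt_lim] at h1
  exact h1.trans (le_centralizer_zc _)

theorem VB_sq (T : Subgroup G) : ∀ v ∈ VB T, v ^ 2 = 1 := fun _ hv => (ChoiceBase.mem_zc.1 hv).2.1

theorem VB_comm (T : Subgroup G) : VB T ≤ centralizer (VB T : Set G) :=
  (ZN.zc_le _).trans (le_centralizer_zc _)

theorem zc_le_VB (T : Subgroup G) : zc T ≤ VB T := (isLev_lim T).zc_le

theorem norm_lim_le (T : Subgroup G) : normalizer (lim T : Set G) ≤ normalizer (VB T : Set G) :=
  normalizer_le_zc _

/-- `V^!` is not FF. -/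
theorem nff_VB : NotFF (VB (S : Subgroup G)) := by
  by_contra hn
  have hSV : (S : Subgroup G) ≤ normalizer (VB (S : Subgroup G) : Set G) :=
    (isLev_lim (S : Subgroup G)).S_norm.trans (norm_lim_le _)
  simp only [NotFF, not_forall, not_lt] at hn
  obtain ⟨A, hA2, hAN, hsq, hcm, hne, hle⟩ := hn
  obtain ⟨g, hg, hgS⟩ := FFThm.exists_conj_le S hSV hA2 hAN
  have hV : cj g (VB (S : Subgroup G)) = VB (S : Subgroup G) := cj_eq_of_mem_normalizer hg
  have hC : cj g (centralizer (VB (S : Subgroup G) : Set G)) = centralizer (VB (S : Subgroup G) : Set G) := by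
    rw [cj_centralizer, hV]
  have hoff : OffM (VB (S : Subgroup G)) A := by
    refine { sq := hsq, comm := hcm, ne := hne, le := FFThm.relIndex_le_iff.2 hle }
  obtain ⟨X, hXA, hX, hXne⟩ := exists_best hoff
  have h1 : cj g X ∈ BO (S : Subgroup G) (lim (S : Subgroup G)) :=
    ⟨(cj_mono g hXA).trans hgS, hX.conj hg⟩
  have h2 := BO.le_centralizer h1
  rw [← hC] at h2
  have h3 := cj_mono g⁻¹ h2
  rw [cj_inv_cj, cj_inv_cj] at h3
  exact hXne h3

variable {P : Subgroup G}

/-- `V_P ≤ V^!` iff `lim S ≤ O₂(P)`. -/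
theorem zl_le_VB_iff (hG : IsCharacteristicTwoType G) (hP : IsParS (S : Subgroup G) P) :
    zl (S : Subgroup G) P ≤ VB (S : Subgroup G) ↔ lim (S : Subgroup G) ≤ o2 P := by
  constructor
  · intro h
    have h1 := IsParS.inf_centralizer S hG hP
    rw [← cs_lim, ← h1]
    exact inf_le_inf_left _ (centralizer_le h)
  · intro h
    exact (hP.isLoc.zl_le S hG).trans ((isLev_lim _).zc_o2_le h (hP.isLoc.o2_le S))

theorem le_norm_lim (hG : IsCharacteristicTwoType G) (hP : IsParS (S : Subgroup G) P)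
    (h : zl (S : Subgroup G) P ≤ VB (S : Subgroup G)) : P ≤ normalizer (lim (S : Subgroup G) : Set G) :=
  (isLev_lim _).le_norm_of_o2 ((zl_le_VB_iff hG hP).1 h) (hP.isLoc.o2_le S)

theorem norm_S_le_norm_lim : normalizer ((S : Subgroup G) : Set G) ≤ normalizer (lim (S : Subgroup G) : Set G) :=
  (isLev_lim _).norm _ (isLev_lim _).le le_rfl

/-- **`s(P)`.** -/
theorem exists_lev (hG : IsCharacteristicTwoType G) (hP : IsParS (S : Subgroup G) P)
    (h : ¬ zl (S : Subgroup G) P ≤ VB (S : Subgroup G)) : ¬ jj (S : Subgroup G) ≤ o2 P ∨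
      ∃ n, lev (S : Subgroup G) n ≤ o2 P ∧ ¬ lev (S : Subgroup G) (n + 1) ≤ o2 P ∧
        ∃ A ∈ BO (S : Subgroup G) (lev (S : Subgroup G) n), ¬ A ≤ o2 P := by
  rw [zl_le_VB_iff hG hP] at h
  by_cases hj : jj (S : Subgroup G) ≤ o2 P
  · right
    by_contra hcon
    push Not at hcon
    have h1 : ∀ n, lev (S : Subgroup G) n ≤ o2 P := by
      intro n
      induction n with
      | zero => exact hj
      | succ n ih =>
        by_contra hn
        have h2 := hcon n ih hn
        apply hn
        refine sup_le ?_ (sSup_le h2)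
        rw [← IsParS.inf_centralizer S hG hP]
        exact inf_le_inf_left _ (centralizer_le
          ((hP.isLoc.zl_le S hG).trans ((lev_isLev _ n).zc_o2_le ih (hP.isLoc.o2_le S))))
    exact h (h1 _)
  · exact Or.inl hj

/-- A best offender on `Ω₁(Z(K))`, `K ≤ O₂(P)` a level, which is not in `O₂(P)` offends on `V_P`. -/
theorem BO.offM (hG : IsCharacteristicTwoType G) (hP : IsParS (S : Subgroup G) P) {K : Subgroup G}
    (hL : Lev (S : Subgroup G) K) (hK : K ≤ o2 P) {A : Subgroup G} (hA : A ∈ BO (S : Subgroup G) K)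
    (hAQ : ¬ A ≤ o2 P) : OffM (zl (S : Subgroup G) P) A := by
  have hV : zl (S : Subgroup G) P ≤ zc K :=
    (hP.isLoc.zl_le S hG).trans (hL.zc_o2_le hK (hP.isLoc.o2_le S))
  refine hA.2.offM hV fun hc => hAQ ?_
  rw [← IsParS.inf_centralizer S hG hP]
  exact le_inf hA.1 hc

theorem ffMod_of_BO (hG : IsCharacteristicTwoType G) (hP : IsParS (S : Subgroup G) P) {K : Subgroup G}
    (hL : Lev (S : Subgroup G) K) (hK : K ≤ o2 P) {A : Subgroup G} (hA : A ∈ BO (S : Subgroup G) K)
    (hAQ : ¬ A ≤ o2 P) : FFMod (S : Subgroup G) P := ⟨A, hA.1, BO.offM hG hP hL hK hA hAQ⟩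

end Cfsg.Agent.Omega.NO3S.Level
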