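import Cfsg.Agent.Omega.NO3S.Level.Basic
import Cfsg.Agent.Omega.NO3S.ThmB.Best

/-!
# The instances of helper555's `BFam`

* `bfam_BO` : the best offenders `BO S K` on `Ω₁(Z(K))`, for every subgroup `U ≤ Ω₁(Z(K))` and every `L ≤ N_G(K)`;
* `bfam_AA` : the elementary abelian subgroups of `S` of largest order, for every elementary abelian `U ≤ S`;
* the hypotheses of `BFam.DM_ex` for a pair `P`, `P' ∈ P*(S)` : `conj_le_of_le_o2`, `conj_le_of_cent`, `le_centralizer_zl`,
  `zl_le_zc_of_norm`.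
-/

set_option autoImplicit false
set_option linter.unusedSectionVars false

namespace Cfsg.Agent.Omega.NO3S.Level

open Subgroup Cfsg Cfsg.Agent.ZN Cfsg.Agent.ZN.ChoiceBase Cfsg.Agent.Omega.MinPar
open Cfsg.Agent.Omega.NO1.BestOff (Best)
open Cfsg.Agent.Omega.FFThm (OffM ElemM)
open Cfsg.Agent.Omega.NO3S.ThmB (BFam)
open Cfsg.Agent.Omega.SQ1.Bau (elem_comm elem_sq)
open Cfsg.Agent.PLocal.ElemAbSup Cfsg.Agent.PLocal.ThompsonJ
open Cfsg.Agent.MinSimple.VModule (zc_le_zl zl_le le_normalizer_o2)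

universe u

variable {G : Type u} [Group G]

section BO

variable [Finite G] {S K U L : Subgroup G}

/-- A best offender on `X` is a best offender on `U ≤ X` (as far as `C_A(U) ≤ B`). -/
theorem best_sub {X A B : Subgroup G} (hXc : ∀ x ∈ X, ∀ y ∈ X, x * y = y * x) (hA : Best X A) (hUX : U ≤ X)
    (h1 : A ⊓ centralizer (U : Set G) ≤ B) (h2 : B ≤ A) :
    Nat.card B * Nat.card ↥(U ⊓ centralizer (B : Set G)) * Nat.card ↥(X ⊓ centralizer (A : Set G)) ≤
      Nat.card B * Nat.card ↥(X ⊓ centralizer (B : Set G)) * Nat.card ↥(U ⊓ centralizer (A : Set G)) := by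
  have hcA : X ⊓ centralizer (A : Set G) ≤ X ⊓ centralizer (B : Set G) := inf_le_inf_left _ (centralizer_le h2)
  have hUB : U ⊓ centralizer (B : Set G) ≤ X ⊓ centralizer (B : Set G) := inf_le_inf_right _ hUX
  have h3 := card_le_of_le (sup_le hUB hcA)
  have h4 : X ⊓ centralizer (A : Set G) ≤ centralizer ((U ⊓ centralizer (B : Set G) : Subgroup G) : Set G) :=
    fun x hx => mem_centralizer_iff.2 fun y hy => hXc y (hUX hy.1) x hx.1
  have h5 := card_sup_mul_card_inf h4
  have e : (U ⊓ centralizer (B : Set G)) ⊓ (X ⊓ centralizer (A : Set G)) = U ⊓ centralizer (A : Set G) := by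
    apply le_antisymm
    · exact le_inf (inf_le_left.trans inf_le_left) (inf_le_right.trans inf_le_right)
    · exact le_inf (inf_le_inf_left _ (centralizer_le h2)) (inf_le_inf_right _ hUX)
  rw [e] at h5
  calc Nat.card B * Nat.card ↥(U ⊓ centralizer (B : Set G)) * Nat.card ↥(X ⊓ centralizer (A : Set G))
      = Nat.card B * (Nat.card ↥(U ⊓ centralizer (B : Set G)) * Nat.card ↥(X ⊓ centralizer (A : Set G))) := by ring
    _ = Nat.card B * (Nat.card ↥((U ⊓ centralizer (B : Set G)) ⊔ (X ⊓ centralizer (A : Set G))) *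
        Nat.card ↥(U ⊓ centralizer (A : Set G))) := by rw [h5]
    _ ≤ Nat.card B * (Nat.card ↥(X ⊓ centralizer (B : Set G)) * Nat.card ↥(U ⊓ centralizer (A : Set G))) :=
        Nat.mul_le_mul_left _ (Nat.mul_le_mul_right _ h3)
    _ = _ := by ring

/-- **The instance for a level.** -/
theorem bfam_BO (hU : U ≤ zc K) (hL : L ≤ normalizer (K : Set G)) : BFam S U L (BO S K) where
  le := fun A hA => hA.1
  elem := fun A hA => ⟨fun a ha => centralizer_le hU (hA.2.sq a ha),
    fun a ha b hb => centralizer_le hU (hA.2.comm a ha b hb)⟩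
  best := fun A hA B h1 h2 => by
    have h3 := best_sub (fun x hx y hy => Lev.zc_comm hx hy) hA.2 hU h1 h2
    have h4 := hA.2.max B h2 (le_trans (inf_le_inf_left _ (centralizer_le hU)) h1)
    have hp : 0 < Nat.card ↥(zc K ⊓ centralizer (A : Set G)) := Nat.card_pos
    refine Nat.le_of_mul_le_mul_right (c := Nat.card ↥(zc K ⊓ centralizer (A : Set G))) (h3.trans ?_) hp
    calc Nat.card B * Nat.card ↥(zc K ⊓ centralizer (B : Set G)) * Nat.card ↥(U ⊓ centralizer (A : Set G))
        ≤ Nat.card A * Nat.card ↥(zc K ⊓ centralizer (A : Set G)) * Nat.card ↥(U ⊓ centralizer (A : Set G)) :=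
          Nat.mul_le_mul_right _ h4
      _ = _ := by ring
  cut := fun A hA B h1 h2 h3 => by
    refine ⟨B, ⟨h2.trans hA.1, NO1.BestOff.ElemM.mono hA.2.toElemM h2, fun Y hY hYc => ?_⟩, rfl⟩
    have hAX : A ⊓ centralizer (zc K : Set G) ≤ B := le_trans (inf_le_inf_left _ (centralizer_le hU)) h1
    have h4 := best_sub (fun x hx y hy => Lev.zc_comm hx hy) hA.2 hU h1 h2
    have h5 : Nat.card A * Nat.card ↥(zc K ⊓ centralizer (A : Set G)) ≤
        Nat.card B * Nat.card ↥(zc K ⊓ centralizer (B : Set G)) := by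
      have hp : 0 < Nat.card ↥(U ⊓ centralizer (A : Set G)) := Nat.card_pos
      refine Nat.le_of_mul_le_mul_right (c := Nat.card ↥(U ⊓ centralizer (A : Set G))) (le_trans (le_of_eq ?_) h4) hp
      rw [h3]; ring
    refine (hA.2.max Y (hY.trans h2) (le_trans (le_inf hAX inf_le_right) hYc)).trans h5
  conj := fun A hA g hg hS => BO.conj hA (hL hg) hS

/-- **The instance for `A(S)`.** -/
theorem bfam_AA (hU : IsElementaryAbelian 2 U) (hUS : U ≤ S) : BFam S U L (AA S) where
  le := fun A hA => hA.2.1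
  elem := fun A hA => ⟨fun a ha => by rw [elem_sq hA.1 a ha]; exact one_mem _, fun a ha b hb => by
    have e : a * b * a⁻¹ * b⁻¹ = 1 := by rw [elem_comm hA.1 a ha b hb]; group
    rw [e]; exact one_mem _⟩
  best := fun A hA B h1 h2 => by
    have hB : IsElementaryAbelian 2 B := isElementaryAbelian_mono hA.1 h2
    have hcB : U ⊓ centralizer (B : Set G) ≤ centralizer (B : Set G) := inf_le_right
    have h3 := isElementaryAbelian_sup hB (isElementaryAbelian_mono hU inf_le_left) hcB
    have h4 := hA.2.2 _ h3 (sup_le (h2.trans hA.2.1) (inf_le_left.trans hUS))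
    rw [← card_sup_mul_card_inf hcB]
    refine Nat.mul_le_mul h4 (card_le_of_le ?_)
    intro x hx
    exact ⟨hx.2.1, mem_centralizer_iff.2 fun a ha => elem_comm hA.1 a ha x (h2 hx.1)⟩
  cut := fun A hA B h1 h2 h3 => by
    have hB : IsElementaryAbelian 2 B := isElementaryAbelian_mono hA.1 h2
    have hcB : U ⊓ centralizer (B : Set G) ≤ centralizer (B : Set G) := inf_le_right
    have h4 := isElementaryAbelian_sup hB (isElementaryAbelian_mono hU inf_le_left) hcB
    have h5 : B ⊔ (U ⊓ centralizer (B : Set G)) ≤ S := sup_le (h2.trans hA.2.1) (inf_le_left.trans hUS)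
    have hUc : U ⊓ centralizer (B : Set G) ≤ centralizer (U : Set G) := fun x hx =>
      mem_centralizer_iff.2 fun y hy => elem_comm hU y hy x hx.1
    have h6 : Nat.card ↥(B ⊓ (U ⊓ centralizer (B : Set G))) ≤ Nat.card ↥(U ⊓ centralizer (A : Set G)) := by
      refine card_le_of_le ?_
      intro x hx
      exact ⟨hx.2.1, mem_centralizer_iff.2 fun a ha => elem_comm hA.1 a ha x (h2 hx.1)⟩
    have h7 := card_sup_mul_card_inf hcB
    have h8 : Nat.card A ≤ Nat.card ↥(B ⊔ (U ⊓ centralizer (B : Set G))) := by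
      have hp : 0 < Nat.card ↥(U ⊓ centralizer (A : Set G)) := Nat.card_pos
      refine Nat.le_of_mul_le_mul_right (c := Nat.card ↥(U ⊓ centralizer (A : Set G))) ?_ hp
      rw [← h3, ← h7]
      exact Nat.mul_le_mul_left _ h6
    refine ⟨B ⊔ (U ⊓ centralizer (B : Set G)), ⟨h4, h5, fun D hD hDS => (hA.2.2 D hD hDS).trans h8⟩, ?_⟩
    rw [sup_assoc, sup_eq_right.2 hUc]
  conj := fun A hA g hg hS => by
    have h1 := cj_mem_AA g hA
    refine ⟨h1.1, hS, fun D hD hDS => ?_⟩
    rw [card_cj]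
    exact hA.2.2 D hD hDS

end BO

section pair

variable [Finite G] {S : Sylow 2 G} {P K N : Subgroup G}

/-- `hPS` -/
theorem conj_le_of_le_o2 (hP : IsPar (S : Subgroup G) P) {A : Subgroup G} (hA : A ≤ o2 P) {g : G} (hg : g ∈ P) :
    cj g A ≤ (S : Subgroup G) := by
  have h1 := cj_mono g hA
  rw [cj_eq_of_mem_normalizer (le_normalizer_o2 P hg)] at h1
  exact h1.trans (hP.isLoc.o2_le S)

/-- `hPS'` -/
theorem conj_le_of_cent (hG : IsCharacteristicTwoType G) (hP : IsParS (S : Subgroup G) P) {A : Subgroup G}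
    (hA : A ≤ (S : Subgroup G)) (hc : A ≤ centralizer (zl (S : Subgroup G) P : Set G)) {g : G} (hg : g ∈ P) :
    cj g A ≤ (S : Subgroup G) := by
  refine conj_le_of_le_o2 hP.toIsPar ?_ hg
  rw [← IsParS.inf_centralizer S hG hP]
  exact le_inf hA hc

omit [Finite G] in
theorem zl_le_of_norm {L U : Subgroup G} (h1 : zc (S : Subgroup G) ≤ U) (h2 : L ≤ normalizer (U : Set G)) :
    zl (S : Subgroup G) L ≤ U := zl_le h1 h2

/-- `⟨Z^L⟩ ≤ Ω₁(Z(K))` for `L ≤ N_G(K)`, `K` a level. -/
theorem zl_le_zc_of_norm {L : Subgroup G} (hK : Lev (S : Subgroup G) K) (hL : L ≤ normalizer (K : Set G)) :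
    zl (S : Subgroup G) L ≤ zc K := zl_le hK.zc_le (hL.trans (normalizer_le_zc K))

omit [Finite G] in
/-- `hO` : a subgroup of `S` which is normal in `L` centralises `⟨Z^L⟩`. -/
theorem le_centralizer_zl {L : Subgroup G} (h1 : N ≤ (S : Subgroup G)) (h2 : L ≤ normalizer (N : Set G)) :
    N ≤ centralizer (zl (S : Subgroup G) L : Set G) := by
  have h3 : zl (S : Subgroup G) L ≤ centralizer (N : Set G) := by
    refine zl_le (fun z hz => mem_centralizer_iff.2 fun n hn => ?_) ?_
    · exact (ChoiceBase.mem_zc.1 hz).2.2 n (h1 hn)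
    · exact h2.trans (normalizer_le_of_cj (F := fun T => centralizer (T : Set G)) (fun g T => cj_centralizer g T |>.symm) N)
  intro n hn
  exact mem_centralizer_iff.2 fun z hz => (mem_centralizer_iff.1 (h3 hz) n hn).symm

end pair

end Cfsg.Agent.Omega.NO3S.Level
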