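import Cfsg.Agent.Omega.NO1.BestOff
import Cfsg.Agent.Omega.NO3S.OneLine.Abs

/-!
# Levels above `J(S)` (helper781, #16560; referee report #16843)

`J₀ = J(S)`, `X_i = Ω₁(Z(J_i))`, `J_{i+1} = ⟨best offenders of S on X_i⟩ C_S(X_i)`.

* `BO S K` : the best offenders on `Ω₁(Z(K))` which lie in `S`;
* `nxt S K`, `lev S n` : the levels;
* `Lev S K` : `J(S) ≤ K ≤ S` and `N_G(T) ≤ N_G(K)` for all `K ≤ T ≤ S`; `Lev.zero`, `Lev.next`, `lev_isLev`;
* `Lev.le_norm_of_o2` : `K ≤ O₂(H) ≤ S` implies `H ≤ N_G(K)`;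
* `Lev.zc_o2_le` : `Ω₁(Z(O₂(H))) ≤ Ω₁(Z(K))`.
-/

set_option autoImplicit false
set_option linter.unusedSectionVars false

namespace Cfsg.Agent.Omega.NO3S.Level

open Subgroup Cfsg Cfsg.Agent.ZN Cfsg.Agent.ZN.ChoiceBase Cfsg.Agent.Omega.MinPar
open Cfsg.Agent.Omega.NO1.BestOff (Best)
open Cfsg.Agent.PLocal.ThompsonJ
open Cfsg.Agent.MinSimple.VModule (zc_le le_normalizer_o2)

universe u

variable {G : Type u} [Group G]

/-- The best offenders on `Ω₁(Z(K))` in `S`. -/
def BO (S K : Subgroup G) : Set (Subgroup G) := {A | A ≤ S ∧ Best (zc K) A}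

/-- The next level. -/
def nxt (S K : Subgroup G) : Subgroup G := (S ⊓ centralizer (zc K : Set G)) ⊔ sSup (BO S K)

/-- The levels. -/
noncomputable def lev (S : Subgroup G) : ℕ → Subgroup G
  | 0 => jj S
  | n + 1 => nxt S (lev S n)

theorem zc_cj (g : G) (T : Subgroup G) : zc (cj g T) = cj g (zc T) := by
  ext x
  rw [mem_cj, ChoiceBase.mem_zc, ChoiceBase.mem_zc, mem_cj]
  have e2 : (g⁻¹ * x * g) ^ 2 = 1 ↔ x ^ 2 = 1 := by
    have : (g⁻¹ * x * g) ^ 2 = g⁻¹ * x ^ 2 * g := by rw [pow_two, pow_two]; group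
    rw [this]
    constructor
    · intro h
      have : x ^ 2 = g * (g⁻¹ * x ^ 2 * g) * g⁻¹ := by group
      rw [this, h]; group
    · intro h
      rw [h]; group
  rw [e2]
  refine and_congr_right fun _ => and_congr_right fun _ => ?_
  constructor
  · intro h y hy
    have hy' : g * y * g⁻¹ ∈ cj g T := by
      rw [mem_cj]
      have : g⁻¹ * (g * y * g⁻¹) * g = y := by group
      rwa [this]
    have h1 := h _ hy'
    have e1 : y * (g⁻¹ * x * g) = g⁻¹ * (g * y * g⁻¹ * x) * g := by group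
    have e3 : g⁻¹ * x * g * y = g⁻¹ * (x * (g * y * g⁻¹)) * g := by group
    rw [e1, e3, h1]
  · intro h y hy
    have h1 := h _ (mem_cj.1 hy)
    have e1 : y * x = g * (g⁻¹ * y * g * (g⁻¹ * x * g)) * g⁻¹ := by group
    have e3 : x * y = g * (g⁻¹ * x * g * (g⁻¹ * y * g)) * g⁻¹ := by group
    rw [e1, e3, h1]

theorem normalizer_le_zc (T : Subgroup G) :
    normalizer (T : Set G) ≤ normalizer ((zc T : Subgroup G) : Set G) :=
  normalizer_le_of_cj (F := zc) zc_cj T

theorem nxt_le (S K : Subgroup G) : nxt S K ≤ S := sup_le inf_le_left (sSup_le fun _ h => h.1)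

theorem BO.le_nxt {S K A : Subgroup G} (h : A ∈ BO S K) : A ≤ nxt S K := (le_sSup h).trans le_sup_right

theorem inf_centralizer_le_nxt (S K : Subgroup G) : S ⊓ centralizer (zc K : Set G) ≤ nxt S K := le_sup_left

theorem le_centralizer_zc (K : Subgroup G) : K ≤ centralizer (zc K : Set G) := fun k hk =>
  mem_centralizer_iff.2 fun _ hz => ((ChoiceBase.mem_zc.1 hz).2.2 k hk).symm

theorem le_nxt {S K : Subgroup G} (h : K ≤ S) : K ≤ nxt S K :=
  (le_inf h (le_centralizer_zc K)).trans le_sup_left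

/-- Conjugates of best offenders in `S` under elements of `N_G(K)`. -/
theorem BO.conj {S K A : Subgroup G} (h : A ∈ BO S K) {g : G} (hg : g ∈ normalizer (K : Set G))
    (hS : cj g A ≤ S) : cj g A ∈ BO S K :=
  ⟨hS, h.2.conj (normalizer_le_zc K hg)⟩

/-- **A level**: `J(S) ≤ K ≤ S`, `N_G(T) ≤ N_G(K)` for all `K ≤ T ≤ S`. -/
structure Lev (S K : Subgroup G) : Prop where
  le : K ≤ S
  jjle : jj S ≤ K
  norm : ∀ T : Subgroup G, K ≤ T → T ≤ S → normalizer (T : Set G) ≤ normalizer (K : Set G)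

theorem Lev.zero [Finite G] (S : Subgroup G) : Lev S (jj S) where
  le := jj_le S
  jjle := le_rfl
  norm := fun T h1 h2 => by
    have h3 := normalizer_le_jj T
    rwa [jj_eq_of_jj_le h1 h2] at h3

theorem Lev.next [Finite G] {S K : Subgroup G} (h : Lev S K) : Lev S (nxt S K) where
  le := nxt_le S K
  jjle := h.jjle.trans (le_nxt h.le)
  norm := fun T h1 h2 g hg => by
    have hgK : g ∈ normalizer (K : Set G) := h.norm T ((le_nxt h.le).trans h1) h2 hg
    have hT : cj g T = T := cj_eq_of_mem_normalizer hg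
    have hX : cj g (zc K) = zc K := cj_eq_of_mem_normalizer (normalizer_le_zc K hgK)
    apply mem_normalizer_of_cj_le
    show Subgroup.map _ _ ≤ _
    rw [nxt, Subgroup.map_sup]
    refine sup_le ?_ ?_
    · refine le_trans ?_ (inf_centralizer_le_nxt S K)
      refine le_inf ?_ ?_
      · exact (cj_mono g ((inf_centralizer_le_nxt S K).trans h1)).trans (hT.le.trans h2)
      · refine (cj_mono g inf_le_right).trans ?_
        rw [cj_centralizer, hX]
    · rw [Subgroup.map_le_iff_le_comap]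
      refine sSup_le fun A hA => ?_
      rw [← Subgroup.map_le_iff_le_comap]
      refine BO.le_nxt (BO.conj hA hgK ?_)
      exact (cj_mono g ((BO.le_nxt hA).trans h1)).trans (hT.le.trans h2)

theorem lev_isLev [Finite G] (S : Subgroup G) : ∀ n, Lev S (lev S n)
  | 0 => Lev.zero S
  | n + 1 => (lev_isLev S n).next

theorem lev_le [Finite G] (S : Subgroup G) (n : ℕ) : lev S n ≤ S := (lev_isLev S n).le

theorem lev_le_succ [Finite G] (S : Subgroup G) (n : ℕ) : lev S n ≤ lev S (n + 1) := le_nxt (lev_le S n)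

theorem lev_mono [Finite G] (S : Subgroup G) : Monotone (lev S) := monotone_nat_of_le_succ (lev_le_succ S)

namespace Lev

variable {S K : Subgroup G}

/-- An involution of `S` which centralises `K' ≥ J(S)` lies in `J(S)`. -/
theorem mem_of_comm [Finite G] (h : Lev S K) {x : G} (hx : x ∈ S) (h2 : x ^ 2 = 1)
    (hc : ∀ y ∈ K, y * x = x * y) : x ∈ zc K := by
  refine ChoiceBase.mem_zc.2 ⟨h.jjle ?_, h2, hc⟩
  exact mem_jj_of_comm hx h2 fun y hy => hc y (h.jjle hy)

theorem zc_le_zc [Finite G] (h : Lev S K) {K' : Subgroup G} (h1 : K ≤ K') (h2 : K' ≤ S) : zc K' ≤ zc K := by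
  intro x hx
  have hx' := ChoiceBase.mem_zc.1 hx
  exact h.mem_of_comm (h2 hx'.1) hx'.2.1 fun y hy => hx'.2.2 y (h1 hy)

theorem zc_le [Finite G] (h : Lev S K) : zc S ≤ zc K := h.zc_le_zc h.le le_rfl

/-- `K ≤ O₂(H) ≤ S` implies `H ≤ N_G(K)`. -/
theorem le_norm_of_o2 (h : Lev S K) {H : Subgroup G} (h1 : K ≤ o2 H) (h2 : o2 H ≤ S) :
    H ≤ normalizer (K : Set G) :=
  (le_normalizer_o2 H).trans (h.norm _ h1 h2)

/-- `Ω₁(Z(O₂(H))) ≤ Ω₁(Z(K))` if `K ≤ O₂(H)`. -/
theorem zc_o2_le [Finite G] (h : Lev S K) {H : Subgroup G} (h1 : K ≤ o2 H) (h2 : o2 H ≤ S) :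
    zc (o2 H) ≤ zc K := h.zc_le_zc h1 h2

theorem S_norm (h : Lev S K) : S ≤ normalizer (K : Set G) := le_normalizer.trans (h.norm S h.le le_rfl)

theorem zc_comm {x y : G} (hx : x ∈ zc K) (hy : y ∈ zc K) : x * y = y * x :=
  (ChoiceBase.mem_zc.1 hy).2.2 x (ChoiceBase.mem_zc.1 hx).1

end Lev

end Cfsg.Agent.Omega.NO3S.Level
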