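import Cfsg.Agent.Omega.NO3S.Level.Cut

/-!
# The case (L) of the cut of GammaFF (helper781)

If the next level of `K₀` is not `K₀`, then `X₀ = Ω₁(Z(K₀))` has an offender, and THEOREM D for `W = X₀`, `M = M₀` gives
`X₀ = V_P` for some `P ∈ P**`.

* `CaseL S P` : `Ω₁(Z(K₀)) = V_P`, `P ∈ P**`; then `K₀ = O₂(P)` is weakly closed in `S`, `Ω₁(Z(O₂(P))) = V_P` (T6),
  all of `P*(S)` and `N_G(T)`, `O₂(P) ≤ T ≤ S`, normalise `V_P`;
* `exists_caseL`, `cut'`.
-/

set_option autoImplicit false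
set_option linter.unusedSectionVars false

namespace Cfsg.Agent.Omega.NO3S.Level

open Subgroup Cfsg Cfsg.Agent.ZN Cfsg.Agent.ZN.ChoiceBase Cfsg.Agent.Omega.MinPar Cfsg.Agent.Omega.Frame
open Cfsg.Agent.Omega.FrameNOFF (CZ)
open Cfsg.Agent.Omega.FFThm (OffM)
open Cfsg.Agent.Omega.NOThreeL.Merge (MZ HypG)
open Cfsg.Agent.Omega.NOThreeL.MergeNF (NFRoot)

universe u

variable {G : Type u} [Group G] [Finite G] {S : Sylow 2 G} {P : Subgroup G}

/-- In GammaFF (`V_P ≤ V^!(S)` for all `P ∈ P**`) all levels lie in `K₀`. -/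
theorem lim_le_K0 (h : HypC S) (hff : ∀ P, PSS (S : Subgroup G) P → FFMod (S : Subgroup G) P)
    (hV : ∀ P, PSS (S : Subgroup G) P → zl (S : Subgroup G) P ≤ VB (S : Subgroup G)) :
    lim (S : Subgroup G) ≤ K0 (S : Subgroup G) := by
  obtain ⟨P, hP, hPn⟩ := h.ex
  refine le_K0 (wc_lim S) fun R hR => ?_
  exact (zl_le_VB_iff h.ctx.char2 hR).1
    (ThmB.Limit.zl_le_VB_hypC h hP hPn (hff P ⟨hP, hPn⟩) (fun Q h1 h2 => hV Q ⟨h1, h2⟩) R hR)

/-- **The case (L)**: `Ω₁(Z(K₀)) = V_P`, `P ∈ P**`; all levels lie in `K₀` (`lim_le_K0`). -/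
structure CaseL (S : Sylow 2 G) (P : Subgroup G) : Prop extends HypC S where
  ff : ∀ P : Subgroup G, PSS (S : Subgroup G) P → FFMod (S : Subgroup G) P
  pss : PSS (S : Subgroup G) P
  eq : X0 (S : Subgroup G) = zl (S : Subgroup G) P
  limK : lim (S : Subgroup G) ≤ K0 (S : Subgroup G)

/-- **(L)** -/
theorem exists_caseL (h : HypC S) (hff : ∀ P, PSS (S : Subgroup G) P → FFMod (S : Subgroup G) P)
    (hV : ∀ P, PSS (S : Subgroup G) P → zl (S : Subgroup G) P ≤ VB (S : Subgroup G))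
    (hn : ¬ nxt (S : Subgroup G) (K0 (S : Subgroup G)) ≤ K0 (S : Subgroup G)) : ∃ P, CaseL S P := by
  have hG := h.ctx.char2
  have hty := ty_of_ff h hff
  have hj := jj_le_all h hty
  have h1 : ∃ A ∈ BO (S : Subgroup G) (K0 (S : Subgroup G)), ¬ A ≤ centralizer (X0 (S : Subgroup G) : Set G) := by
    by_contra hcon
    push Not at hcon
    apply hn
    refine sup_le (cs_X0 hG hj).le (sSup_le fun A hA => ?_)
    rw [← cs_X0 hG hj]
    exact le_inf hA.1 (hcon A hA)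
  obtain ⟨A, hA, hne⟩ := h1
  have hoff : OffM (X0 (S : Subgroup G)) A := hA.2.offM le_rfl hne
  obtain ⟨P, hP, he⟩ := thmD h hty (X0_comm _) (X0_sq _) (M0_norm _) ((ZN.zc_le _).trans (K0_le _))
    (fun P hP => par_le hP) (Level.zc_le_X0 hj) (prin_M0 hG hj le_rfl) ⟨A, hA.1.trans (S_le_M0 _), hoff⟩
  exact ⟨P, { toHypC := h, ff := hff, pss := hP, eq := he, limK := lim_le_K0 h hff hV }⟩

namespace CaseL

variable (h : CaseL S P)
include h

theorem ty : ∀ P, PSS (S : Subgroup G) P → ThmB.Main.Ty (S : Subgroup G) P := ty_of_ff h.toHypC h.ff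

theorem hj : ∀ P, IsParS (S : Subgroup G) P → jj (S : Subgroup G) ≤ o2 P := jj_le_all h.toHypC h.ty

theorem lev : Lev (S : Subgroup G) (K0 (S : Subgroup G)) := lev_K0 h.hj

theorem K0_eq : K0 (S : Subgroup G) = o2 P := by
  rw [← cs_X0 h.ctx.char2 h.hj, h.eq, IsParS.inf_centralizer S h.ctx.char2 h.pss.par]

/-- **(T6)** `Ω₁(Z(O₂(P))) = V_P` -/
theorem zc_eq : zc (o2 P) = zl (S : Subgroup G) P := by
  rw [← h.eq, X0, h.K0_eq]

/-- `O₂(P)` is weakly closed in `S`. -/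
theorem wc : NO3b.Wc.WC (S : Subgroup G) (o2 P) := by
  rw [← h.K0_eq]; exact wc_K0 _

theorem levQ : Lev (S : Subgroup G) (o2 P) := by
  rw [← h.K0_eq]; exact h.lev

theorem M0_eq : M0 (S : Subgroup G) = normalizer (o2 P : Set G) := by rw [M0, h.K0_eq]

/-- `N_G(O₂(P)) ≤ N_G(V_P)` -/
theorem norm_o2_le : normalizer (o2 P : Set G) ≤ normalizer (zl (S : Subgroup G) P : Set G) := by
  rw [← h.eq, ← h.M0_eq]
  exact M0_norm _

/-- `N_G(T) ≤ N_G(V_P)` for `O₂(P) ≤ T ≤ S` -/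
theorem norm_le {T : Subgroup G} (h1 : o2 P ≤ T) (h2 : T ≤ (S : Subgroup G)) :
    normalizer (T : Set G) ≤ normalizer (zl (S : Subgroup G) P : Set G) :=
  (WC.norm_le h.wc h1 h2).trans h.norm_o2_le

/-- All members of `P*(S)` normalise `V_P`. -/
theorem par_le {R : Subgroup G} (hR : IsParS (S : Subgroup G) R) :
    R ≤ normalizer (zl (S : Subgroup G) P : Set G) := by
  rw [← h.eq]
  exact (Level.par_le hR).trans (M0_norm _)

/-- All levels lie in `O₂(P)`. -/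
theorem lim_le : lim (S : Subgroup G) ≤ o2 P := by
  rw [← h.K0_eq]; exact h.limK

theorem zl_le_line {R : Subgroup G} (hR : IsParS (S : Subgroup G) R) : zl (S : Subgroup G) R ≤ zl (S : Subgroup G) P :=
  ZN.zl_le ZN.zc_le_zl (h.par_le hR)

/-- `O₂(P) ≤ O₂(R)` for all `R ∈ P*(S)` -/
theorem o2_le {R : Subgroup G} (hR : IsParS (S : Subgroup G) R) : o2 P ≤ o2 R := by
  rw [← h.K0_eq]; exact K0_le_o2 hR

theorem hypN : HypN S P := h.toHypC.hypN h.pss.par h.pss.nonLoc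

theorem hypF : HypF S P := { toHypN := h.hypN, four := fun R hR => h.four R hR.par hR.nonLoc }

end CaseL

/-- **THE CUT OF GammaFF**, second form. -/
theorem cut' (h : HypC S) (hff : ∀ P, PSS (S : Subgroup G) P → FFMod (S : Subgroup G) P)
    (hV : ∀ P, PSS (S : Subgroup G) P → zl (S : Subgroup G) P ≤ VB (S : Subgroup G)) :
    (∃ P, CaseL S P) ∨
    HypG S (MZ (S : Subgroup G)) ∨
    (∃ P F, WSt S P F ∧ ((∃ R, PSS (S : Subgroup G) R ∧
        zl (S : Subgroup G) (MZ (S : Subgroup G)) = zl (S : Subgroup G) R) ∨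
      (¬ FFMod (S : Subgroup G) (MZ (S : Subgroup G)) ∧
        ¬ zl (S : Subgroup G) (MZ (S : Subgroup G)) ≤ o2 (CZ (S : Subgroup G))))) ∨
    (W0 S ∧ NFRoot (S : Subgroup G) (M0 (S : Subgroup G)) ∧ ∃ R, PSS (S : Subgroup G) R ∧
      zl (S : Subgroup G) (MZ (S : Subgroup G)) = zl (S : Subgroup G) R) ∨
    ∃ P, CaseG S P := by
  by_cases hn : nxt (S : Subgroup G) (K0 (S : Subgroup G)) ≤ K0 (S : Subgroup G)
  · exact Or.inr (cut_of_nxt h hff hn)
  · exact Or.inl (exists_caseL h hff hV hn)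

end Cfsg.Agent.Omega.NO3S.Level
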