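import Cfsg.Agent.Omega.NO3S.ThmB.Main
import Cfsg.Agent.Omega.NO3S.HypL
import Cfsg.Agent.Omega.NOThreeL.Merge

/-!
# The top level (helper781, #19713 (B))

`K₀` : the largest subgroup of `S` which is weakly closed in `S` and contained in `O₂(P)` for all `P ∈ P*(S)`,
`M₀ = N_G(K₀)`, `X₀ = Ω₁(Z(K₀))`.  Suppose `J(S) ≤ O₂(P)` for all `P ∈ P*(S)`.

* `lev_K0` : `K₀` is a level; `par_le`, `MZ_le`, `norm_le` : `P*(S) ⊆ M₀`, `N_G(T) ≤ M₀` for `K₀ ≤ T ≤ S`;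
* `cs_of_le` : `C_S(V) = K₀` for `⟨Z^{M₀}⟩ ≤ V ≤ X₀`, `V` normal in `M₀`;
* `principle` : a family of subgroups of `G`, closed under `M₀`, with a member in `S` but not in `K₀`, has a member in
  `S` which is not in `O₂(P)` for some `P ∈ P*(S)`;
* `stageK`, `exists_pss` : THEOREM B at the level `K₀`: if `nxt S K₀ ≰ K₀`, then `nxt S K₀ ≰ O₂(P)` for some
  `P ∈ P**`;
* `nff_X0` : if `nxt S K₀ ≤ K₀`, then `X₀` is not FF.
-/

set_option autoImplicit false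
set_option linter.unusedSectionVars false

namespace Cfsg.Agent.Omega.NO3S.Level

open Subgroup Cfsg Cfsg.Agent.ZN Cfsg.Agent.ZN.ChoiceBase Cfsg.Agent.Omega.MinPar Cfsg.Agent.Omega.Frame
open Cfsg.Agent.Omega.FrameNOFF (CZ)
open Cfsg.Agent.Omega.NO1.BestOff (Best exists_best)
open Cfsg.Agent.Omega.NO3b.Wc (WC cj_sSup)
open Cfsg.Agent.Omega.FFThm (OffM ElemM)

universe u

variable {G : Type u} [Group G]

theorem WC.mem_norm {S K : Subgroup G} (h : WC S K) {g : G} (hg : cj g K ≤ S) : g ∈ normalizer (K : Set G) :=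
  mem_normalizer_iff_cj.2 (h.eq g hg)

theorem WC.norm_le {S K T : Subgroup G} (h : WC S K) (h1 : K ≤ T) (h2 : T ≤ S) :
    normalizer (T : Set G) ≤ normalizer (K : Set G) := fun g hg => WC.mem_norm h (by
  have h3 := cj_mono g h1
  rw [cj_eq_of_mem_normalizer hg] at h3
  exact h3.trans h2)

section defs

variable [Finite G]

/-- The largest weakly closed subgroup of `S` in all `O₂(P)`, `P ∈ P*(S)`. -/
def K0 (S : Subgroup G) : Subgroup G := sSup {B | WC S B ∧ ∀ P, IsParS S P → B ≤ o2 P}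

/-- `N_G(K₀)` -/
def M0 (S : Subgroup G) : Subgroup G := normalizer (K0 S : Set G)

/-- `Ω₁(Z(K₀))` -/
noncomputable def X0 (S : Subgroup G) : Subgroup G := zc (K0 S)

theorem wc_K0 (S : Subgroup G) : WC S (K0 S) := WC.sSup fun _ hb => hb.1

theorem K0_le (S : Subgroup G) : K0 S ≤ S := (wc_K0 S).le

theorem K0_le_o2 {S P : Subgroup G} (hP : IsParS S P) : K0 S ≤ o2 P := sSup_le fun _ hb => hb.2 P hP

theorem le_K0 {S B : Subgroup G} (hB : WC S B) (h : ∀ P, IsParS S P → B ≤ o2 P) : B ≤ K0 S := le_sSup ⟨hB, h⟩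

theorem norm_le {S T : Subgroup G} (h1 : K0 S ≤ T) (h2 : T ≤ S) : normalizer (T : Set G) ≤ M0 S :=
  WC.norm_le (wc_K0 S) h1 h2

theorem S_le_M0 (S : Subgroup G) : S ≤ M0 S := le_normalizer.trans (norm_le (K0_le S) le_rfl)

theorem M0_norm (S : Subgroup G) : M0 S ≤ normalizer (X0 S : Set G) := normalizer_le_zc _

theorem K0_cent (S : Subgroup G) : K0 S ≤ centralizer (X0 S : Set G) := le_centralizer_zc _

theorem X0_sq (S : Subgroup G) : ∀ v ∈ X0 S, v ^ 2 = 1 := fun _ hv => (ChoiceBase.mem_zc.1 hv).2.1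

theorem X0_comm (S : Subgroup G) : X0 S ≤ centralizer (X0 S : Set G) :=
  (ZN.zc_le _).trans (le_centralizer_zc _)

end defs

variable [Finite G] {S : Sylow 2 G} {P : Subgroup G}

theorem par_le (hP : IsParS (S : Subgroup G) P) : P ≤ M0 (S : Subgroup G) :=
  (ZN.le_normalizer_o2 P).trans (norm_le (K0_le_o2 hP) (hP.isLoc.o2_le S))

theorem MZ_le : NOThreeL.Merge.MZ (S : Subgroup G) ≤ M0 (S : Subgroup G) := sSup_le fun _ hP => par_le hP

/-- `J(S) ≤ O₂(P)` for all `P ∈ P*(S)`: `K₀` is a level. -/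
theorem lev_K0 (hj : ∀ P, IsParS (S : Subgroup G) P → jj (S : Subgroup G) ≤ o2 P) :
    Lev (S : Subgroup G) (K0 (S : Subgroup G)) where
  le := K0_le _
  jjle := le_K0 (wc_jj S) hj
  norm := fun _ h1 h2 => norm_le h1 h2

section

variable (hG : IsCharacteristicTwoType G) (hj : ∀ P, IsParS (S : Subgroup G) P → jj (S : Subgroup G) ≤ o2 P)

include hj in
theorem zc_le_X0 : zc (S : Subgroup G) ≤ X0 (S : Subgroup G) := (lev_K0 hj).zc_le

include hj in
/-- `⟨Z^{M₀}⟩ ≤ X₀` -/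
theorem zl_M0_le : zl (S : Subgroup G) (M0 (S : Subgroup G)) ≤ X0 (S : Subgroup G) :=
  ZN.zl_le (zc_le_X0 hj) (M0_norm _)

include hj in
/-- `⟨Z^L⟩ ≤ X₀` for `L ≤ M₀` -/
theorem zl_le_X0 {L : Subgroup G} (hL : L ≤ M0 (S : Subgroup G)) : zl (S : Subgroup G) L ≤ X0 (S : Subgroup G) :=
  ZN.zl_le (zc_le_X0 hj) (hL.trans (M0_norm _))

include hG in
/-- A subgroup of `S` which centralises `V ≥ ⟨Z^{M₀}⟩` lies in all `O₂(P)`. -/
theorem le_o2_of_cent {V : Subgroup G} (hV : zl (S : Subgroup G) (M0 (S : Subgroup G)) ≤ V)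
    (hP : IsParS (S : Subgroup G) P) : (S : Subgroup G) ⊓ centralizer (V : Set G) ≤ o2 P := by
  rw [← IsParS.inf_centralizer S hG hP]
  exact inf_le_inf_left _ (centralizer_le
    ((ZN.zl_le (ZN.zc_le_zl) ((par_le hP).trans (MinSimple.VModule.le_normalizer_zl _ _))).trans hV))

include hG in
/-- `C_S(V) = K₀` for `⟨Z^{M₀}⟩ ≤ V ≤ X₀`, `V` normal in `M₀`. -/
theorem cs_of_le {V : Subgroup G} (h1 : zl (S : Subgroup G) (M0 (S : Subgroup G)) ≤ V) (h2 : V ≤ X0 (S : Subgroup G))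
    (h3 : M0 (S : Subgroup G) ≤ normalizer (V : Set G)) :
    (S : Subgroup G) ⊓ centralizer (V : Set G) = K0 (S : Subgroup G) := by
  have hK : K0 (S : Subgroup G) ≤ (S : Subgroup G) ⊓ centralizer (V : Set G) :=
    le_inf (K0_le _) ((K0_cent _).trans (centralizer_le h2))
  refine le_antisymm (le_K0 ⟨inf_le_left, fun g hg => ?_⟩ fun P hP => le_o2_of_cent hG h1 hP) hK
  have h4 : g ∈ M0 (S : Subgroup G) := WC.mem_norm (wc_K0 _) ((cj_mono g hK).trans hg)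
  have h5 : cj g V = V := cj_eq_of_mem_normalizer (h3 h4)
  have h6 : cj g ((S : Subgroup G) ⊓ centralizer (V : Set G)) ≤ (S : Subgroup G) ⊓ centralizer (V : Set G) := by
    refine le_inf hg ?_
    rw [cj_inf, cj_centralizer, h5]
    exact inf_le_right
  exact Subgroup.eq_of_le_of_card_ge h6 (card_cj _ _).ge

include hG hj in
/-- `C_S(X₀) = K₀` -/
theorem cs_X0 : (S : Subgroup G) ⊓ centralizer (X0 (S : Subgroup G) : Set G) = K0 (S : Subgroup G) :=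
  cs_of_le hG (zl_M0_le hj) le_rfl (M0_norm _)

include hG hj in
/-- `C_S(⟨Z^{M₀}⟩) = K₀` -/
theorem cs_V0 : (S : Subgroup G) ⊓ centralizer (zl (S : Subgroup G) (M0 (S : Subgroup G)) : Set G) =
    K0 (S : Subgroup G) :=
  cs_of_le hG le_rfl (zl_M0_le hj) (MinSimple.VModule.le_normalizer_zl _ _)

end

/-- **PRINCIPLE.** -/
theorem principle {F : Set (Subgroup G)} (hF : ∀ A ∈ F, ∀ n ∈ M0 (S : Subgroup G), cj n A ∈ F)
    {A : Subgroup G} (hA : A ∈ F) (hAS : A ≤ (S : Subgroup G)) (hAK : ¬ A ≤ K0 (S : Subgroup G)) :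
    ∃ B ∈ F, B ≤ (S : Subgroup G) ∧ ∃ P, IsParS (S : Subgroup G) P ∧ ¬ B ≤ o2 P := by
  by_contra hcon
  have hcon' : ∀ B ∈ F, B ≤ (S : Subgroup G) → ∀ P, IsParS (S : Subgroup G) P → B ≤ o2 P := by
    intro B hB hBS P hP
    by_contra h1
    exact hcon ⟨B, hB, hBS, P, hP, h1⟩
  set K : Subgroup G := K0 (S : Subgroup G) ⊔ sSup {B | B ∈ F ∧ B ≤ (S : Subgroup G)} with hK
  have hKS : K ≤ (S : Subgroup G) := sup_le (K0_le _) (sSup_le fun B hB => hB.2)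
  have hKW : K ≤ K0 (S : Subgroup G) := by
    refine le_K0 ⟨hKS, fun g hg => ?_⟩ fun P hP => sup_le (K0_le_o2 hP) (sSup_le fun B hB => hcon' B hB.1 hB.2 P hP)
    have h2 : g ∈ M0 (S : Subgroup G) := WC.mem_norm (wc_K0 _) ((cj_mono g le_sup_left).trans hg)
    have h4 : cj g K ≤ K := by
      change Subgroup.map _ _ ≤ _
      rw [hK, Subgroup.map_sup]
      refine sup_le_sup (cj_eq_of_mem_normalizer h2).le ?_
      change cj g (sSup {B | B ∈ F ∧ B ≤ (S : Subgroup G)}) ≤ _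
      rw [cj_sSup]
      refine iSup_le fun B => ?_
      have h5 : cj g (B : Subgroup G) ≤ (S : Subgroup G) :=
        (cj_mono g ((le_sSup B.2).trans le_sup_right)).trans hg
      exact le_sSup (a := cj g (B : Subgroup G)) ⟨hF _ B.2.1 g h2, h5⟩
    exact Subgroup.eq_of_le_of_card_ge h4 (card_cj _ _).ge
  have h6 : A ≤ K := (le_sSup (s := {B | B ∈ F ∧ B ≤ (S : Subgroup G)}) ⟨hA, hAS⟩).trans le_sup_right
  exact hAK (h6.trans hKW)

/-! ### Offenders on `X₀` -/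

/-- **THEOREM B at a level `K`.** -/
theorem stageK {R : Subgroup G} (h : HypN S P) (hty : ThmB.Main.Ty (S : Subgroup G) P)
    (hR : IsParS (S : Subgroup G) R)
    (hloc : ¬ NonLoc R (CZ (S : Subgroup G)) ∨ ∃ z ∈ zc (S : Subgroup G), ∃ z' ∈ zc (S : Subgroup G), z ≠ 1 ∧ z' ≠ 1 ∧
      z ≠ z') {K : Subgroup G} (hK : Lev (S : Subgroup G) K) (hKP : K ≤ o2 P) (hKR : K ≤ o2 R)
    (hn : nxt (S : Subgroup G) K ≤ o2 P) : nxt (S : Subgroup G) K ≤ o2 R := by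
  by_contra hcon
  have hG := h.ctx.char2
  have hL := ThmB.Main.isLoc_sup hG h.noFF h.star hR
  have h2 := ThmB.Inst.exists_BO hG hR hK hKR hcon
  exact ThmB.Main.core h hty hR hloc (ThmB.Inst.bsit_BO hG h.star hR hL hK hKP hKR
    (fun A hA => (BO.le_nxt hA).trans hn) h2) h2

/-- **The stage of `P` at a general level**: `J(S) ≰ O₂(P)`, or there is a level `K ≤ O₂(R)` for all `R ∈ P*(S)` with
`nxt S K ≰ O₂(P)`. -/
def LevStK (S P : Subgroup G) : Prop :=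
  ¬ jj S ≤ o2 P ∨ ∃ K, Lev S K ∧ (∀ R, IsParS S R → K ≤ o2 R) ∧ ¬ nxt S K ≤ o2 P

/-- **(L)** if the next level of `K₀` is not `K₀`, then some `P ∈ P**` has `nxt S K₀ ≰ O₂(P)`. -/
theorem exists_pss (h : HypC S) (hty : ∀ P, PSS (S : Subgroup G) P → ThmB.Main.Ty (S : Subgroup G) P)
    (hj : ∀ P, IsParS (S : Subgroup G) P → jj (S : Subgroup G) ≤ o2 P)
    (hn : ¬ nxt (S : Subgroup G) (K0 (S : Subgroup G)) ≤ K0 (S : Subgroup G)) :
    ∃ P, PSS (S : Subgroup G) P ∧ ¬ nxt (S : Subgroup G) (K0 (S : Subgroup G)) ≤ o2 P := by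
  by_contra hcon
  push Not at hcon
  obtain ⟨P, hP, hPn⟩ := h.ex
  refine hn (le_K0 (wc_nxt (wc_K0 _)) fun R hR => ?_)
  by_cases hl : NonLoc R (CZ (S : Subgroup G))
  · exact hcon R ⟨hR, hl⟩
  · exact stageK (h.hypN hP hPn) (hty P ⟨hP, hPn⟩) hR (Or.inl hl) (lev_K0 hj) (K0_le_o2 hP) (K0_le_o2 hR)
      (hcon P ⟨hP, hPn⟩)

/-- `J(S) ≤ O₂(P)` for all `P ∈ P*(S)`. -/
theorem jj_le_all (h : HypC S) (hty : ∀ P, PSS (S : Subgroup G) P → ThmB.Main.Ty (S : Subgroup G) P) :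
    ∀ P, IsParS (S : Subgroup G) P → jj (S : Subgroup G) ≤ o2 P := by
  intro R hR
  obtain ⟨P, hP, hPn⟩ := h.ex
  by_cases hl : NonLoc R (CZ (S : Subgroup G))
  · exact h.jle R hR hl
  · exact ThmB.Main.stage_jj (h.hypN hP hPn) (hty P ⟨hP, hPn⟩) hR (Or.inl hl) (h.jle P hP hPn)

/-- If `nxt S K₀ ≤ K₀`, then `X₀` is not FF. -/
theorem nff_X0 (hn : nxt (S : Subgroup G) (K0 (S : Subgroup G)) ≤ K0 (S : Subgroup G)) :
    NO3b.EZero.NotFF (X0 (S : Subgroup G)) := by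
  by_contra hf
  have hSV : (S : Subgroup G) ≤ normalizer (X0 (S : Subgroup G) : Set G) := (S_le_M0 _).trans (M0_norm _)
  simp only [NO3b.EZero.NotFF, not_forall, not_lt] at hf
  obtain ⟨A, hA2, hAN, hsq, hcm, hne, hle⟩ := hf
  obtain ⟨g, hg, hgS⟩ := FFThm.exists_conj_le S hSV hA2 hAN
  have hV : cj g (X0 (S : Subgroup G)) = X0 (S : Subgroup G) := cj_eq_of_mem_normalizer hg
  have hC : cj g (centralizer (X0 (S : Subgroup G) : Set G)) = centralizer (X0 (S : Subgroup G) : Set G) := by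
    rw [cj_centralizer, hV]
  have hoff : OffM (X0 (S : Subgroup G)) A := by
    refine { sq := hsq, comm := hcm, ne := hne, le := FFThm.relIndex_le_iff.2 hle }
  obtain ⟨X, hXA, hX, hXne⟩ := exists_best hoff
  have h1 : cj g X ∈ BO (S : Subgroup G) (K0 (S : Subgroup G)) :=
    ⟨(cj_mono g hXA).trans hgS, hX.conj hg⟩
  have h2 := ((BO.le_nxt h1).trans hn).trans (K0_cent _)
  rw [← hC] at h2
  have h3 := cj_mono g⁻¹ h2
  rw [cj_inv_cj, cj_inv_cj] at h3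
  exact hXne h3

end Cfsg.Agent.Omega.NO3S.Level
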