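import Cfsg.Agent.Omega.NO3b.FPB.CaseTwo
import Cfsg.Agent.Omega.NO3S.OneLine.LevAbs

/-!
# helper526's CLAIM (#16134) for a family of best offenders over a pair `(B, ZJ)`

* `Fm S Y H B ZJ AA` : `Y` elementary abelian, `AA` a family of best offenders of `S` on `Y` (contained in `B ≤ S`), closed
  under the local cut and under conjugation by `H` inside `S`; `ZJ = C_Y(AA) = C_Y(B)`;
* `Bl S Y H B ZJ AA L V` : a block `(L, V)` over `B`, `V ≤ Y`, `L ≤ H`;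
* `Bl.order` : for `A ∈ AA`, `A ≰ P = C_B(V)` and `V ≤ W ≤ Y`: `B = A P`, `C_W(A ∩ P) = V C_W(A)`, `A ∩ P ∈ AA`;
* `claim` : `C_B(V) ≠ C_B(V') ⇒ [V', B] ≤ C(L)`;
* `Bl.cY_P` : `C_Y(C_B(V)) = V ZJ`.
-/

set_option autoImplicit false
set_option linter.unusedSectionVars false

namespace Cfsg.Agent.Omega.NO3S.Level.Claim

open Subgroup Cfsg Cfsg.Agent.ZN Cfsg.Agent.ZN.ChoiceBase
open Cfsg.Agent.Omega.SQ1.Bau (mem_sup_comm card_sup_comm mem_sup_norm Mv not_mv_iff mv_inv exists_min)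
open Cfsg.Agent.Omega.NO3b.FPB.Base (cW mem_cW cW_le cW_anti cW_sup comm_iff)
open Cfsg.Agent.Omega.NO3b.FPB.Claim (mem_cj_iff conj_mem_cj conj_mem_cj_iff comm_conj comm_conj_iff comm_el
  conj_mem_of_norm conj_mem_of_norm' comm_drop comm_drop')
open Cfsg.Agent.Omega.NO3b.FPB.CaseTwo (norm_of_conj)
open Cfsg.Agent.Omega.NO3S.OneLine (card_cent_mul card_sup_norm)
open scoped Pointwise

universe u

variable {G : Type u} [Group G]

/-- A family of best offenders of `S` on `Y`, over the pair `(B, ZJ)`. -/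
structure Fm (S Y H B ZJ : Subgroup G) (AA : Set (Subgroup G)) : Prop where
  Yc : ∀ x ∈ Y, ∀ y ∈ Y, x * y = y * x
  BS : B ≤ S
  YB : Y ≤ B
  le : ∀ A ∈ AA, A ≤ B
  BZ : ∀ b ∈ B, ∀ z ∈ ZJ, b * z = z * b
  ZY : ZJ ≤ Y
  mZ : ∀ y ∈ Y, (∀ A ∈ AA, ∀ a ∈ A, a * y = y * a) → y ∈ ZJ
  cm : ∀ A ∈ AA, ∀ a ∈ A, ∀ b ∈ A, a * b * a⁻¹ * b⁻¹ ∈ centralizer (Y : Set G)
  best : ∀ A ∈ AA, ∀ E : Subgroup G, E ≤ A → A ⊓ centralizer (Y : Set G) ≤ E →
    Nat.card E * Nat.card (cW Y E) ≤ Nat.card A * Nat.card (cW Y A)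
  cut : ∀ A ∈ AA, ∀ E : Subgroup G, E ≤ A → A ⊓ centralizer (Y : Set G) ≤ E →
    Nat.card A * Nat.card (cW Y A) ≤ Nat.card E * Nat.card (cW Y E) → E ∈ AA
  conj : ∀ A ∈ AA, ∀ g ∈ H, cj g A ≤ S → cj g A ∈ AA

/-- `C_B(V)`. -/
def cB (B V : Subgroup G) : Subgroup G := B ⊓ centralizer (V : Set G)

theorem mem_cB {B V : Subgroup G} {x : G} : x ∈ cB B V ↔ x ∈ B ∧ ∀ v ∈ V, x * v = v * x := by
  rw [cB, mem_inf, mem_centralizer_iff]
  exact and_congr_right fun _ => ⟨fun h v hv => (h v hv).symm, fun h v hv => (h v hv).symm⟩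

theorem cB_le (B V : Subgroup G) : cB B V ≤ B := inf_le_left

theorem cB_cj (g : G) (B V : Subgroup G) : cB (cj g B) (cj g V) = cj g (cB B V) := by
  unfold cB
  rw [← cj_centralizer, ← cj_inf]

/-- A block `(L, V)` over `(B, ZJ)`. -/
structure Bl (S Y H B ZJ : Subgroup G) (AA : Set (Subgroup G)) (L V : Subgroup G) : Prop where
  BL : B ≤ L
  LH : L ≤ H
  LY : L ≤ normalizer (Y : Set G)
  LV : L ≤ normalizer (V : Set G)
  LP : L ≤ normalizer (cB B V : Set G)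
  VY : V ≤ Y
  quad : ∀ b ∈ B, ∀ v ∈ V, b * v * b⁻¹ * v⁻¹ ∈ ZJ
  cent : ∀ b ∈ B, b ∉ cB B V → ∀ v ∈ V, b * v = v * b → v ∈ ZJ
  card : Nat.card B * Nat.card ↥(V ⊓ ZJ) ≤ Nat.card (cB B V) * Nat.card V
  off : ∃ A ∈ AA, ¬ A ≤ cB B V
  gen : ∀ x ∈ L, Mv (V ⊓ ZJ) x → ∀ X : Subgroup G, B ≤ X → cj x B ≤ X → L ≤ X
  split : ∀ z ∈ ZJ, ∃ a ∈ V ⊓ ZJ, ∃ c ∈ ZJ, (∀ l ∈ L, l * c = c * l) ∧ z = a * c
  mv : ∀ x ∈ L, Mv (V ⊓ ZJ) x → ∀ e ∈ B, e ∉ cB B V → Mv (V ⊓ ZJ) (x * e * x⁻¹)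
  faith : ∀ v ∈ V, ∀ b ∈ B, (∀ l ∈ L, l * (b * v * b⁻¹ * v⁻¹) = b * v * b⁻¹ * v⁻¹ * l) →
    b * v = v * b
  ne : ∃ x ∈ L, Mv (V ⊓ ZJ) x

/-! ### The order argument -/

/-- `E ≤ A` with `C_A(W) ≤ E` and `|E| |C_W(E)| = |A| |C_W(A)|`. -/
def BB (W A E : Subgroup G) : Prop :=
  E ≤ A ∧ A ⊓ centralizer (W : Set G) ≤ E ∧ Nat.card A * Nat.card (cW W A) = Nat.card E * Nat.card (cW W E)

theorem BB.self (W A : Subgroup G) : BB W A A := ⟨le_rfl, inf_le_left, rfl⟩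

theorem card_W_mul [Finite G] {Y W A E : Subgroup G} (hY : ∀ x ∈ Y, ∀ y ∈ Y, x * y = y * x) (hWY : W ≤ Y)
    (hE : E ≤ A) : Nat.card (cW W E) * Nat.card (cW Y A) ≤ Nat.card (cW Y E) * Nat.card (cW W A) :=
  card_cent_mul hY hWY hE

namespace Fm

variable {S Y H B ZJ W A E F : Subgroup G} {AA : Set (Subgroup G)} (h : Fm S Y H B ZJ AA)

include h

theorem bestW [Finite G] (hWY : W ≤ Y) (hA : A ∈ AA) (hE : E ≤ A) (hc : A ⊓ centralizer (W : Set G) ≤ E) :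
    Nat.card E * Nat.card (cW W E) ≤ Nat.card A * Nat.card (cW W A) := by
  have h1 := h.best A hA E hE ((inf_le_inf_left _ (centralizer_le hWY)).trans hc)
  have h2 := card_W_mul h.Yc hWY hE
  have hp : 0 < Nat.card (cW Y A) := Nat.card_pos
  refine Nat.le_of_mul_le_mul_right ?_ hp
  calc Nat.card E * Nat.card (cW W E) * Nat.card (cW Y A)
      = Nat.card E * (Nat.card (cW W E) * Nat.card (cW Y A)) := by ring
    _ ≤ Nat.card E * (Nat.card (cW Y E) * Nat.card (cW W A)) := Nat.mul_le_mul_left _ h2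
    _ = (Nat.card E * Nat.card (cW Y E)) * Nat.card (cW W A) := by ring
    _ ≤ (Nat.card A * Nat.card (cW Y A)) * Nat.card (cW W A) := Nat.mul_le_mul_right _ h1
    _ = _ := by ring

theorem cutW [Finite G] (hWY : W ≤ Y) (hA : A ∈ AA) (hE : BB W A E) : E ∈ AA := by
  obtain ⟨h1, h2, h3⟩ := hE
  refine h.cut A hA E h1 ((inf_le_inf_left _ (centralizer_le hWY)).trans h2) ?_
  have h4 := card_W_mul h.Yc hWY h1
  have hp : 0 < Nat.card (cW W A) := Nat.card_pos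
  refine Nat.le_of_mul_le_mul_right ?_ hp
  calc Nat.card A * Nat.card (cW Y A) * Nat.card (cW W A)
      = (Nat.card A * Nat.card (cW W A)) * Nat.card (cW Y A) := by ring
    _ = Nat.card E * (Nat.card (cW W E) * Nat.card (cW Y A)) := by rw [h3]; ring
    _ ≤ Nat.card E * (Nat.card (cW Y E) * Nat.card (cW W A)) := Nat.mul_le_mul_left _ h4
    _ = _ := by ring

theorem norm_of_le (hWY : W ≤ Y) (hA : A ∈ AA) (hE : BB W A E) : A ≤ normalizer (E : Set G) := by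
  intro a ha
  have key : ∀ x ∈ A, ∀ e ∈ E, x * e * x⁻¹ ∈ E := by
    intro x hx e he
    have h1 := h.cm A hA x hx e (hE.1 he)
    have h2 : x * e * x⁻¹ * e⁻¹ ∈ E := by
      have h0 : x * e * x⁻¹ * e⁻¹ ∈ A := mul_mem (mul_mem (mul_mem hx (hE.1 he)) (inv_mem hx)) (inv_mem (hE.1 he))
      exact hE.2.1 (mem_inf.2 ⟨h0, centralizer_le hWY h1⟩)
    have h3 := mul_mem h2 he
    rwa [inv_mul_cancel_right] at h3
  rw [mem_normalizer_iff]
  intro e
  refine ⟨fun he => key a ha e he, fun he => ?_⟩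
  have h1 := key a⁻¹ (inv_mem ha) _ he
  have e1 : a⁻¹ * (a * e * a⁻¹) * a⁻¹⁻¹ = e := by group
  rwa [e1] at h1

theorem infBB [Finite G] (hWY : W ≤ Y) (hA : A ∈ AA) (hE : BB W A E) (hF : BB W A F) : BB W A (E ⊓ F) := by
  refine ⟨inf_le_left.trans hE.1, le_inf hE.2.1 hF.2.1, le_antisymm ?_ ?_⟩
  · have h1 : Nat.card ↥(E ⊔ F) * Nat.card ↥(E ⊓ F) = Nat.card E * Nat.card F :=
      card_sup_norm (hE.1.trans (h.norm_of_le hWY hA hF))
    have h2 : Nat.card ↥(cW W E ⊔ cW W F) * Nat.card ↥(cW W E ⊓ cW W F) =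
        Nat.card (cW W E) * Nat.card (cW W F) :=
      card_sup_comm fun a ha b hb => h.Yc a (hWY (cW_le W E ha)) b (hWY (cW_le W F hb))
    have h3 : Nat.card ↥(cW W E ⊔ cW W F) ≤ Nat.card (cW W (E ⊓ F)) :=
      Subgroup.card_le_of_le (sup_le (cW_anti W inf_le_left) (cW_anti W inf_le_right))
    rw [← cW_sup] at h2
    have h4 := h.bestW hWY hA (sup_le hE.1 hF.1) (hE.2.1.trans le_sup_left)
    set m := Nat.card A * Nat.card (cW W A) with hm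
    have hmpos : 0 < m := Nat.mul_pos Nat.card_pos Nat.card_pos
    refine Nat.le_of_mul_le_mul_right ?_ hmpos
    calc m * m = (Nat.card E * Nat.card (cW W E)) * (Nat.card F * Nat.card (cW W F)) := by
          rw [← hE.2.2, ← hF.2.2]
      _ = (Nat.card E * Nat.card F) * (Nat.card (cW W E) * Nat.card (cW W F)) := by ring
      _ = (Nat.card ↥(E ⊔ F) * Nat.card ↥(E ⊓ F)) *
          (Nat.card ↥(cW W E ⊔ cW W F) * Nat.card (cW W (E ⊔ F))) := by rw [h1, h2]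
      _ = (Nat.card ↥(E ⊓ F) * Nat.card ↥(cW W E ⊔ cW W F)) *
          (Nat.card ↥(E ⊔ F) * Nat.card (cW W (E ⊔ F))) := by ring
      _ ≤ (Nat.card ↥(E ⊓ F) * Nat.card (cW W (E ⊓ F))) * m :=
          Nat.mul_le_mul (Nat.mul_le_mul_left _ h3) h4
  · exact h.bestW hWY hA (inf_le_left.trans hE.1) (le_inf hE.2.1 hF.2.1)

end Fm

namespace Bl

variable {S Y H B ZJ W A L V : Subgroup G} {AA : Set (Subgroup G)} (f : Fm S Y H B ZJ AA)
  (k : Bl S Y H B ZJ AA L V)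

theorem P_cent {p v : G} (hp : p ∈ cB B V) (hv : v ∈ V) : p * v = v * p := (mem_cB.1 hp).2 v hv

include f k

/-- The main order argument. -/
theorem order [Finite G] (hVW : V ≤ W) (hWY : W ≤ Y) (hE : A ∈ AA) (hEP : ¬ A ≤ cB B V) :
    Nat.card A * Nat.card ↥(V ⊓ ZJ) = Nat.card ↥(A ⊓ cB B V) * Nat.card V ∧
    (∀ b ∈ B, ∃ e ∈ A, ∃ p ∈ cB B V, b = e * p) ∧
    cW W (A ⊓ cB B V) = V ⊔ cW W A ∧ BB W A (A ⊓ cB B V) := by
  have hEB : A ≤ B := f.le A hE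
  have hcF : A ⊓ centralizer (W : Set G) ≤ A ⊓ cB B V := by
    rintro x ⟨h1, h2⟩
    exact ⟨h1, hEB h1, centralizer_le hVW h2⟩
  set F := A ⊓ cB B V with hF
  have hFE : F ≤ A := inf_le_left
  have h1 : Nat.card F * Nat.card (cW W F) ≤ Nat.card A * Nat.card (cW W A) := f.bestW hWY hE hFE hcF
  -- `C_V(A) ≤ line`
  obtain ⟨b, hb, hbP⟩ := SetLike.not_le_iff_exists.1 hEP
  have hVE : V ⊓ cW W A ≤ V ⊓ ZJ := by
    rintro v ⟨hv, hv2⟩
    exact ⟨hv, k.cent b (hEB hb) hbP v hv ((mem_cW.1 hv2).2 b hb)⟩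
  have h2 : V ⊔ cW W A ≤ cW W F := by
    refine sup_le (fun v hv => mem_cW.2 ⟨hVW hv, fun e he => ?_⟩) (cW_anti W hFE)
    exact P_cent (mem_inf.1 he).2 hv
  have h3 : Nat.card ↥(V ⊔ cW W A) * Nat.card ↥(V ⊓ cW W A) = Nat.card V * Nat.card (cW W A) :=
    card_sup_comm fun a ha c hc => f.Yc a (hWY (hVW ha)) c (hWY (cW_le W A hc))
  -- `|A| / |F| ≤ |B| / |P|`
  have h4 : Nat.card ((A : Set G) * ((cB B V : Subgroup G) : Set G) : Set G) ≤ Nat.card B := by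
    refine Nat.card_mono (Set.toFinite _) ?_
    rintro _ ⟨e, he, p, hp, rfl⟩
    exact mul_mem (hEB he) (cB_le B V hp)
  have h5 := Cfsg.Agent.Lib.ProductSet.card_mul_card_inf A (cB B V)
  rw [← hF] at h5
  -- the numbers
  have pF : 0 < Nat.card F := Nat.card_pos
  have pV : 0 < Nat.card V := Nat.card_pos
  have pP : 0 < Nat.card (cB B V) := Nat.card_pos
  have pE : 0 < Nat.card A := Nat.card_pos
  have pL : 0 < Nat.card ↥(V ⊓ ZJ) := Nat.card_pos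
  have pc : 0 < Nat.card (cW W A) := Nat.card_pos
  have hcB := k.card
  set cE := Nat.card A
  set cF := Nat.card F
  set cV := Nat.card V
  set cP := Nat.card (cB B V)
  set cBB := Nat.card B
  set cl := Nat.card ↥(V ⊓ ZJ)
  set cC := Nat.card (cW W A)
  set cD := Nat.card (cW W F)
  set cEP := Nat.card ((A : Set G) * ((cB B V : Subgroup G) : Set G) : Set G)
  set cU := Nat.card ↥(V ⊔ cW W A)
  set cI := Nat.card ↥(V ⊓ cW W A)
  have hI : cI ≤ cl := Subgroup.card_le_of_le hVE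
  have hU : cU ≤ cD := Subgroup.card_le_of_le h2
  -- (a) `cE * cl ≤ cF * cV`
  have ha : cE * cl ≤ cF * cV := by
    refine Nat.le_of_mul_le_mul_right ?_ pP
    calc cE * cl * cP = (cE * cP) * cl := by ring
      _ = cEP * cF * cl := by rw [← h5]
      _ ≤ cBB * cF * cl := Nat.mul_le_mul_right _ (Nat.mul_le_mul_right _ h4)
      _ = cF * (cBB * cl) := by ring
      _ ≤ cF * (cP * cV) := Nat.mul_le_mul_left _ hcB
      _ = cF * cV * cP := by ring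
  -- (b) `cF * cV ≤ cE * cl`
  have hb1 : cF * (cV * cC) ≤ cE * cl * cC := by
    calc cF * (cV * cC) = cF * (cU * cI) := by rw [h3]
      _ ≤ cF * (cD * cl) := Nat.mul_le_mul_left _ (Nat.mul_le_mul hU hI)
      _ = (cF * cD) * cl := by ring
      _ ≤ (cE * cC) * cl := Nat.mul_le_mul_right _ h1
      _ = cE * cl * cC := by ring
  have hb : cF * cV ≤ cE * cl := Nat.le_of_mul_le_mul_right (by rw [mul_assoc]; exact hb1) pc
  have hab : cE * cl = cF * cV := le_antisymm ha hb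
  -- equalities everywhere
  have e1 : cF * (cU * cI) = (cE * cC) * cl := by
    rw [h3]
    calc cF * (cV * cC) = cF * cV * cC := by ring
      _ = cE * cl * cC := by rw [hab]
      _ = _ := by ring
  have e2 : cF * cD * cl ≤ cF * (cU * cI) := by
    rw [e1]
    exact Nat.mul_le_mul_right _ h1
  have e3 : cD ≤ cU := by
    have h6 : cF * cD * cl ≤ cF * cU * cl := by
      refine e2.trans ?_
      rw [← mul_assoc]
      exact Nat.mul_le_mul_left _ hI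
    have h7 := Nat.le_of_mul_le_mul_right h6 pL
    exact Nat.le_of_mul_le_mul_left h7 pF
  have e4 : V ⊔ cW W A = cW W F := Subgroup.eq_of_le_of_card_ge h2 e3
  have e5 : cE * cC = cF * cD := by
    apply le_antisymm _ h1
    have h6 : (cE * cC) * cl ≤ (cF * cD) * cl := by
      rw [← e1]
      calc cF * (cU * cI) ≤ cF * (cD * cl) := Nat.mul_le_mul_left _ (Nat.mul_le_mul hU hI)
        _ = _ := by ring
    exact Nat.le_of_mul_le_mul_right h6 pL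
  have e6 : cBB ≤ cEP := by
    have h6 : cBB * (cF * cl) ≤ cEP * (cF * cl) := by
      calc cBB * (cF * cl) = cF * (cBB * cl) := by ring
        _ ≤ cF * (cP * cV) := Nat.mul_le_mul_left _ hcB
        _ = (cF * cV) * cP := by ring
        _ = (cE * cl) * cP := by rw [hab]
        _ = (cE * cP) * cl := by ring
        _ = cEP * cF * cl := by rw [← h5]
        _ = cEP * (cF * cl) := by ring
    exact Nat.le_of_mul_le_mul_right h6 (Nat.mul_pos pF pL)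
  refine ⟨hab, ?_, e4.symm, hFE, hcF, e5⟩
  have h8 : (A : Set G) * ((cB B V : Subgroup G) : Set G) = (B : Set G) := by
    refine Set.eq_of_subset_of_ncard_le ?_ ?_ (Set.toFinite _)
    · rintro _ ⟨e, he, p, hp, rfl⟩
      exact mul_mem (hEB he) (cB_le B V hp)
    · rw [← Nat.card_coe_set_eq, ← Nat.card_coe_set_eq]
      exact e6
  intro b hb
  have h9 : b ∈ (A : Set G) * ((cB B V : Subgroup G) : Set G) := by rw [h8]; exact hb
  obtain ⟨e, he, p, hp, rfl⟩ := h9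
  exact ⟨e, he, p, hp, rfl⟩

/-- `C_Y(C_B(V)) = V ZJ`. -/
theorem cY_P [Finite G] : ∀ y ∈ Y, (∀ p ∈ cB B V, p * y = y * p) → ∃ v ∈ V, ∃ z ∈ ZJ, y = v * z := by
  obtain ⟨A, hA, hAP⟩ := k.off
  obtain ⟨-, h2, h3, -⟩ := k.order f k.VY le_rfl hA hAP
  intro y hy hyP
  have h4 : y ∈ V ⊔ cW Y A := by
    rw [← h3]; exact mem_cW.2 ⟨hy, fun e he => hyP e (mem_inf.1 he).2⟩
  obtain ⟨v1, hv1, c, hc, rfl⟩ := mem_sup_comm (fun a ha b hb => f.Yc a (k.VY ha) b (cW_le Y A hb)) h4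
  have hcY := cW_le Y A hc
  refine ⟨v1, hv1, c, f.mZ c hcY fun A' hA' e he => ?_, rfl⟩
  obtain ⟨a, ha, p, hp, rfl⟩ := h2 e (f.le A' hA' he)
  have hpc : p * c = c * p := by
    have h5 := hyP p hp
    have h6 : p * v1 = v1 * p := P_cent hp hv1
    have h7 : p * (v1 * c) = v1 * (p * c) := by rw [← mul_assoc, h6]; group
    rw [h7, mul_assoc v1 c p] at h5
    exact mul_left_cancel h5
  have hac := (mem_cW.1 hc).2 a ha
  calc a * p * c = a * (p * c) := by group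
    _ = (a * c) * p := by rw [hpc]; group
    _ = c * (a * p) := by rw [hac]; group

/-- `ZJ ⊓ ZJ^x ≤ C(L)`. -/
theorem inter {x z : G} (hx : x ∈ L) (hm : Mv (V ⊓ ZJ) x) (hz : z ∈ ZJ) (hz' : x⁻¹ * z * x ∈ ZJ) :
    z ∈ centralizer (L : Set G) := by
  have h1 : L ≤ centralizer ({z} : Set G) := by
    refine k.gen x hx hm _ (fun b hb => mem_centralizer_iff.2 fun y hy => ?_) ?_
    · rw [show y = z from hy]
      exact (f.BZ b hb z hz).symm
    · intro b hb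
      obtain ⟨b, hb0, rfl⟩ := mem_cj_iff.1 hb
      rw [mem_centralizer_iff]
      intro y hy
      rw [show y = z from hy]
      have h2 := (f.BZ b hb0 _ hz').symm
      have h3 := comm_conj (g := x) h2
      have e : x * (x⁻¹ * z * x) * x⁻¹ = z := by group
      rwa [e] at h3
  rw [mem_centralizer_iff]
  intro l hl
  exact (mem_centralizer_iff.1 (h1 hl) z rfl).symm

theorem conj_mem {A' : Subgroup G} (hA : A' ∈ AA) (hP : A' ≤ cB B V) {x : G} (hx : x ∈ L) : cj x A' ∈ AA := by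
  refine f.conj A' hA x (k.LH hx) ?_
  rintro _ ⟨a, ha, rfl⟩
  exact f.BS (cB_le B V (conj_mem_of_norm k.LP hx (hP ha)))

end Bl

section

variable {S Y H B ZJ W A E L L' V V' : Subgroup G} {AA : Set (Subgroup G)}

/-- CLAIM, case (i). -/
theorem case_i [Finite G] (f : Fm S Y H B ZJ AA) (k : Bl S Y H B ZJ AA L V) (k' : Bl S Y H B ZJ AA L' V')
    (hWY : W ≤ Y) (hVW' : ∀ y ∈ L, cj y V' ≤ W)
    (hWmin : ∀ X : Subgroup G, V ≤ X → (∀ y ∈ L, cj y V' ≤ X) → W ≤ X)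
    (hWn : L ≤ normalizer (W : Set G)) (hA : A ∈ AA) (hAP : ¬ A ≤ cB B V) (hE0 : BB W A (A ⊓ cB B V))
    {x : G} (hx : x ∈ L) (hm : Mv (V ⊓ ZJ) x) (hnle : ¬ A ⊓ cB B V ≤ cj x (cB B V')) :
    ∀ b ∈ B, ∀ v ∈ V', b * v * b⁻¹ * v⁻¹ ∈ centralizer (L : Set G) := by
  have hYn : ∀ y ∈ L, cj y Y = Y := fun y hy => cj_eq_of_mem_normalizer (k.LY hy)
  have hWj : ∀ y ∈ L, cj y W = W := fun y hy => cj_eq_of_mem_normalizer (hWn hy)
  have hcb : ∀ y ∈ L, ∀ p ∈ cB B V, p ∈ cj y B := fun y hy p hp =>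
    mem_cj.2 (cB_le B V (conj_mem_of_norm' k.LP hy hp))
  have hV'W : V' ≤ W := by
    have := hVW' 1 (one_mem L)
    rwa [cj_one] at this
  -- the minimal `D`
  obtain ⟨D, ⟨hD1, hD2, hD3⟩, -, hDmin⟩ := exists_min
    (fun D : Subgroup G => BB W A D ∧ D ≤ A ⊓ cB B V ∧ ¬ D ≤ cj x (cB B V'))
    (X := A ⊓ cB B V) ⟨hE0, le_rfl, hnle⟩
  have hDP : D ≤ cB B V := hD2.trans inf_le_right
  have hDA : D ∈ AA := f.cutW hWY hA hD1
  have hord : ∀ y ∈ L, ¬ D ≤ cj y (cB B V') →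
      Nat.card D * Nat.card ↥(V' ⊓ ZJ) = Nat.card ↥(D ⊓ cj y (cB B V')) * Nat.card V' ∧
      (∀ b ∈ cj y B, ∃ e ∈ D, ∃ p ∈ cj y (cB B V'), b = e * p) ∧
      cW W (D ⊓ cj y (cB B V')) = cj y V' ⊔ cW W D ∧ BB W A (D ⊓ cj y (cB B V')) := by
    intro y hy hny
    have hyi := inv_mem hy
    have hD' : cj y⁻¹ D ∈ AA := k.conj_mem f hDA hDP hyi
    have hny' : ¬ cj y⁻¹ D ≤ cB B V' := fun h1 => hny (by
      have h2 := cj_mono y h1
      rwa [cj_cj_inv] at h2)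
    obtain ⟨h1, h2, h3, h4⟩ := k'.order f hV'W hWY hD' hny'
    have e0 : cj y⁻¹ D ⊓ cB B V' = cj y⁻¹ (D ⊓ cj y (cB B V')) := by
      rw [cj_inf, cj_inv_cj]
    rw [e0] at h1 h3 h4
    rw [card_cj, card_cj] at h1
    have ecW : ∀ X : Subgroup G, cW W (cj y⁻¹ X) = cj y⁻¹ (cW W X) := by
      intro X
      unfold cW
      rw [cj_inf, cj_centralizer, hWj _ hyi]
    have h3' : cW W (D ⊓ cj y (cB B V')) = cj y V' ⊔ cW W D := by
      have h5 := congrArg (cj y) h3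
      rw [ecW, ecW, cj_cj_inv] at h5
      rw [h5]
      show Subgroup.map _ _ = _
      rw [Subgroup.map_sup]
      have e1 : Subgroup.map (MulAut.conj y).toMonoidHom (cj y⁻¹ (cW W D)) = cW W D := cj_cj_inv y _
      rw [e1]
    refine ⟨h1, ?_, h3', inf_le_left.trans hD1.1, ?_, ?_⟩
    · intro b hb
      obtain ⟨b, hb0, rfl⟩ := mem_cj_iff.1 hb
      obtain ⟨e, he, p, hp, rfl⟩ := h2 b hb0
      rw [mem_cj, inv_inv] at he
      exact ⟨_, he, _, conj_mem_cj hp, by group⟩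
    · rintro c ⟨hc1, hc2⟩
      have hcD : c ∈ D := hD1.2.1 ⟨hc1, hc2⟩
      refine ⟨hcD, mem_cj.2 (mem_cB.2 ⟨mem_cj.1 (hcb y hy c (hDP hcD)), fun v hv => ?_⟩)⟩
      have h5 := mem_centralizer_iff.1 hc2 _ (hVW' y hy (conj_mem_cj hv))
      have h6 := comm_conj (g := y⁻¹) h5.symm
      have e1 : y⁻¹ * c * y⁻¹⁻¹ = y⁻¹ * c * y := by rw [inv_inv]
      have e2 : y⁻¹ * (y * v * y⁻¹) * y⁻¹⁻¹ = v := by group
      rwa [e1, e2] at h6
    · rw [hD1.2.2]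
      have h5 := h4.2.2
      rw [ecW, ecW, card_cj, card_cj, card_cj, card_cj] at h5
      exact h5
  have hposV : 0 < Nat.card V' := Nat.card_pos
  -- `D ⊓ P₂^x` centralises `W`
  have hcent : W ≤ centralizer ((D ⊓ cj x (cB B V') : Subgroup G) : Set G) := by
    refine hWmin _ (fun v hv => mem_centralizer_iff.2 fun d hd => ?_) (fun y hy v hv =>
      mem_centralizer_iff.2 fun d hd => ?_)
    · exact Bl.P_cent (hDP (mem_inf.1 hd).1) hv
    · have hdy : d ∈ cj y (cB B V') := by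
        by_cases hny : D ≤ cj y (cB B V')
        · exact hny (mem_inf.1 hd).1
        · obtain ⟨h1, -, -, h4⟩ := hord y hy hny
          obtain ⟨h1', -, -, -⟩ := hord x hx hD3
          have h5 : D ⊓ cj y (cB B V') ≤ cj x (cB B V') := by
            by_contra hcon
            have h6 := hDmin (D ⊓ cj y (cB B V')) ⟨h4, inf_le_left.trans hD2, hcon⟩ inf_le_left
            exact hny (h6.trans inf_le_right)
          have h6 : D ⊓ cj y (cB B V') = D ⊓ cj x (cB B V') := by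
            refine Subgroup.eq_of_le_of_card_ge (le_inf inf_le_left h5) ?_
            have h7 : Nat.card ↥(D ⊓ cj x (cB B V')) * Nat.card V' =
                Nat.card ↥(D ⊓ cj y (cB B V')) * Nat.card V' := by rw [← h1, ← h1']
            exact (Nat.eq_of_mul_eq_mul_right hposV h7).le
          rw [← h6] at hd
          exact (mem_inf.1 hd).2
      obtain ⟨d', hd', rfl⟩ := mem_cj_iff.1 hdy
      obtain ⟨v', hv', rfl⟩ := mem_cj_iff.1 hv
      exact comm_conj (Bl.P_cent hd' hv')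
  obtain ⟨-, hD4, hD5, -⟩ := hord x hx hD3
  have hWdec : ∀ w ∈ W, ∃ v ∈ cj x V', ∃ c ∈ cW W D, w = v * c := by
    intro w hw
    have h1 : w ∈ cW W (D ⊓ cj x (cB B V')) :=
      mem_cW.2 ⟨hw, fun e he => mem_centralizer_iff.1 (hcent hw) e he⟩
    rw [hD5] at h1
    exact mem_sup_comm (fun a ha c hc => f.Yc a (hWY (hVW' x hx ha)) c (hWY (cW_le W D hc))) h1
  -- the elements `d v d⁻¹ v⁻¹`
  obtain ⟨e, he, heP⟩ := SetLike.not_le_iff_exists.1 hAP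
  have heB : e ∈ B := f.le A hA he
  have heL : e ∈ L := k.BL heB
  have hzj : ∀ d ∈ D, ∀ v ∈ cj x V', d * v * d⁻¹ * v⁻¹ ∈ cj x ZJ := by
    intro d hd v hv
    obtain ⟨d', hd', rfl⟩ := mem_cj_iff.1 (hcb x hx d (hDP hd))
    obtain ⟨v', hv', rfl⟩ := mem_cj_iff.1 hv
    rw [comm_el]
    exact conj_mem_cj (k'.quad d' hd' v' hv')
  have key : ∀ d ∈ D, ∀ v ∈ cj x V', d * v * d⁻¹ * v⁻¹ ∈ centralizer (L : Set G) := by
    intro d hd v hv
    have hz := hzj d hd v hv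
    have hvW : v ∈ W := hVW' x hx hv
    -- the conjugate by `e`
    have hdA : d ∈ A := (hD2 hd).1
    have hw : e * v * e⁻¹ ∈ W := conj_mem_of_norm hWn heL hvW
    obtain ⟨v', hv', c', hc', e1⟩ := hWdec _ hw
    have hdc : d * c' = c' * d := (mem_cW.1 hc').2 d hd
    have hze : e * (d * v * d⁻¹ * v⁻¹) * e⁻¹ = d * v' * d⁻¹ * v'⁻¹ := by
      have e2 : e * (d * v * d⁻¹ * v⁻¹) * e⁻¹ =
          (e * d * e⁻¹) * (e * v * e⁻¹) * (e * d * e⁻¹)⁻¹ * (e * v * e⁻¹)⁻¹ := by group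
      -- `e d e⁻¹ = (e d e⁻¹ d⁻¹) d`, the first factor centralises `Y`
      have hcY : e * d * e⁻¹ * d⁻¹ ∈ centralizer (Y : Set G) := f.cm A hA e he d hdA
      set u := e * v * e⁻¹ with hu
      have huY : u ∈ Y := hWY hw
      have hduY : d * u * d⁻¹ ∈ Y := conj_mem_of_norm k.LY (k.BL (f.le A hA hdA)) huY
      have e3 : e * d * e⁻¹ * u * (e * d * e⁻¹)⁻¹ = d * u * d⁻¹ := by
        have e4 : e * d * e⁻¹ * u * (e * d * e⁻¹)⁻¹ =
            (e * d * e⁻¹ * d⁻¹) * (d * u * d⁻¹) * (e * d * e⁻¹ * d⁻¹)⁻¹ := by group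
        rw [e4, ← mem_centralizer_iff.1 hcY _ hduY, mul_inv_cancel_right]
      rw [e2, e3, e1, comm_drop hdc]
    have hz' : e * (d * v * d⁻¹ * v⁻¹) * e⁻¹ ∈ cj x ZJ := by
      rw [hze]; exact hzj d hd v' hv'
    set z := d * v * d⁻¹ * v⁻¹ with hzdef
    -- split `z`
    obtain ⟨z0, hz0, ez⟩ := mem_cj_iff.1 hz
    obtain ⟨a, ha, c, hc, hlc, rfl⟩ := k.split z0 hz0
    have hxc : x * c * x⁻¹ = c := by rw [hlc x hx]; group
    have ez2 : z = (x * a * x⁻¹) * c := by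
      rw [ez]
      calc x * (a * c) * x⁻¹ = (x * a * x⁻¹) * (x * c * x⁻¹) := by group
        _ = _ := by rw [hxc]
    set z1 := x * a * x⁻¹ with hz1
    have hec : e * c * e⁻¹ = c := by rw [hlc e heL]; group
    have ez3 : e * z * e⁻¹ = (e * z1 * e⁻¹) * c := by
      rw [ez2]
      calc e * (z1 * c) * e⁻¹ = (e * z1 * e⁻¹) * (e * c * e⁻¹) := by group
        _ = _ := by rw [hec]
    have hcz : c ∈ cj x ZJ := mem_cj_iff.2 ⟨c, hc, hxc.symm⟩
    have hz1' : e * z1 * e⁻¹ ∈ cj x ZJ := by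
      rw [ez3] at hz'
      have := mul_mem hz' (inv_mem hcz)
      rwa [mul_inv_cancel_right] at this
    -- `t = x⁻¹ (e z1 e⁻¹) x`
    have hcen : x⁻¹ * (e * z1 * e⁻¹) * x ∈ centralizer (L : Set G) := by
      have hmx : Mv (V ⊓ ZJ) x⁻¹ := mv_inv.2 hm
      have hmv := k.mv x⁻¹ (inv_mem hx) hmx e heB heP
      have hyL : x⁻¹ * e * x⁻¹⁻¹ ∈ L := mul_mem (mul_mem (inv_mem hx) heL) (inv_mem (inv_mem hx))
      refine k.inter f hyL hmv (mem_cj.1 hz1') ?_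
      have e4 : (x⁻¹ * e * x⁻¹⁻¹)⁻¹ * (x⁻¹ * (e * z1 * e⁻¹) * x) * (x⁻¹ * e * x⁻¹⁻¹) = a := by
        rw [hz1]; group
      rw [e4]
      exact (mem_inf.1 ha).2
    have hLc : L ≤ normalizer (centralizer (L : Set G) : Set G) := by
      intro l hl
      rw [mem_normalizer_iff_cj, cj_centralizer]
      congr 1
      exact_mod_cast cj_eq_of_mem_normalizer (Subgroup.le_normalizer hl)
    have h8 : z1 ∈ centralizer (L : Set G) := by
      have h9 := conj_mem_of_norm hLc (mul_mem (inv_mem heL) hx) hcen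
      have e5 : e⁻¹ * x * (x⁻¹ * (e * z1 * e⁻¹) * x) * (e⁻¹ * x)⁻¹ = z1 := by group
      rwa [e5] at h9
    rw [ez2]
    refine mul_mem h8 (mem_centralizer_iff.2 fun l hl => hlc l hl)
  -- conclusion
  intro b hb v hv
  obtain ⟨d, hd, p, hp, e1⟩ := hD4 (x * b * x⁻¹) (conj_mem_cj hb)
  have hpv : p * (x * v * x⁻¹) = x * v * x⁻¹ * p := by
    obtain ⟨p', hp', rfl⟩ := mem_cj_iff.1 hp
    exact comm_conj (Bl.P_cent hp' hv)
  have h1 := key d hd (x * v * x⁻¹) (conj_mem_cj hv)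
  rw [← comm_drop' hpv, ← e1, comm_el] at h1
  rw [mem_centralizer_iff] at h1 ⊢
  intro l hl
  have h2 := h1 (x * l * x⁻¹) (mul_mem (mul_mem hx hl) (inv_mem hx))
  exact comm_conj_iff.1 h2

/-- Case (ii), first half: `[V₂, P₁] ≤ C(L₁)`. -/
theorem case_ii [Finite G] (f : Fm S Y H B ZJ AA) (k : Bl S Y H B ZJ AA L V) (k' : Bl S Y H B ZJ AA L' V')
    {F : Subgroup G} (hEB : E ≤ B) (hEP : ¬ E ≤ cB B V) (hEb : ∀ b ∈ B, ∃ e ∈ E, ∃ p ∈ cB B V, b = e * p)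
    (hF : ∀ c ∈ F, c ∈ Y ∧ ∀ e ∈ E, e * c = c * e)
    {x : G} (hx : x ∈ L) (hm : Mv (V ⊓ ZJ) x) (hxF : cj x V' ≤ V ⊔ F) :
    ∀ g ∈ cB B V, ∀ v ∈ V', g * v * g⁻¹ * v⁻¹ ∈ centralizer (L : Set G) := by
  have hYn : ∀ y ∈ L, cj y Y = Y := fun y hy => cj_eq_of_mem_normalizer (k.LY hy)
  have hxY : cj x V' ≤ Y := by
    have := cj_mono x k'.VY
    rwa [hYn x hx] at this
  set U := V ⊔ cj x V' with hU
  have hUY : U ≤ Y := sup_le k.VY hxY
  have hUdec : ∀ u ∈ U, ∃ v ∈ V, ∃ w ∈ cj x V', u = v * w := fun u hu =>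
    mem_sup_comm (fun a ha b hb => f.Yc a (k.VY ha) b (hxY hb)) hu
  have hVF : ∀ w ∈ cj x V', ∃ v ∈ V, ∃ c ∈ F, w = v * c := fun w hw =>
    mem_sup_comm (fun a ha b hb => f.Yc a (k.VY ha) b (hF b hb).1) (hxF hw)
  have hEL : E ≤ L := hEB.trans k.BL
  -- `[U, E] ≤ V`
  have hUE : ∀ e ∈ E, ∀ u ∈ U, e * u * e⁻¹ * u⁻¹ ∈ V := by
    intro e he u hu
    obtain ⟨v, hv, w, hw, rfl⟩ := hUdec u hu
    obtain ⟨v1, hv1, c, hc, rfl⟩ := hVF w hw
    have h1 : e * (v * v1 * c) * e⁻¹ * (v * v1 * c)⁻¹ =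
        e * (v * v1) * e⁻¹ * (v * v1)⁻¹ := comm_drop ((hF c hc).2 e he)
    rw [← mul_assoc v v1 c, h1]
    exact mul_mem (conj_mem_of_norm k.LV (hEL he) (mul_mem hv hv1)) (inv_mem (mul_mem hv hv1))
  have hEU : ∀ e ∈ E, ∀ u ∈ U, e * u * e⁻¹ ∈ U := by
    intro e he u hu
    have h1 := mul_mem (mem_sup_left (hUE e he u hu) : _ ∈ U) hu
    rwa [inv_mul_cancel_right] at h1
  -- `x B x⁻¹` normalises `U`
  have hBx : cj x B ≤ normalizer (U : Set G) := by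
    intro b hb
    refine norm_of_conj fun u hu => ?_
    obtain ⟨v, hv, w, hw, rfl⟩ := hUdec u hu
    have hbL : b ∈ L := by
      obtain ⟨b', hb', rfl⟩ := mem_cj_iff.1 hb
      exact mul_mem (mul_mem hx (k.BL hb')) (inv_mem hx)
    have e1 : b * (v * w) * b⁻¹ = (b * v * b⁻¹) * (b * w * b⁻¹) := by group
    rw [e1]
    refine mul_mem (mem_sup_left (conj_mem_of_norm k.LV hbL hv)) (mem_sup_right ?_)
    obtain ⟨b', hb', rfl⟩ := mem_cj_iff.1 hb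
    obtain ⟨w', hw', rfl⟩ := mem_cj_iff.1 hw
    have e2 : x * b' * x⁻¹ * (x * w' * x⁻¹) * (x * b' * x⁻¹)⁻¹ = x * (b' * w' * b'⁻¹) * x⁻¹ := by
      group
    rw [e2]
    exact conj_mem_cj (conj_mem_of_norm k'.LV (k'.BL hb') hw')
  have hPx : ∀ p ∈ cB B V, p ∈ cj x B := fun p hp =>
    mem_cj.2 (cB_le B V (conj_mem_of_norm' k.LP hx hp))
  have hLU : L ≤ normalizer (U : Set G) := by
    refine k.gen x hx hm _ (fun b hb => ?_) hBx
    obtain ⟨e, he, p, hp, rfl⟩ := hEb b hb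
    exact mul_mem (norm_of_conj (hEU e he)) (hBx (hPx p hp))
  -- `V' ≤ U`
  have hV'U : V' ≤ U := by
    intro v hv
    have h1 : x * v * x⁻¹ ∈ U := mem_sup_right (conj_mem_cj hv)
    have h2 := conj_mem_of_norm' hLU hx h1
    have e1 : x⁻¹ * (x * v * x⁻¹) * x = v := by group
    rwa [e1] at h2
  obtain ⟨e, he, heP⟩ := SetLike.not_le_iff_exists.1 hEP
  have heB : e ∈ B := hEB he
  have heL : e ∈ L := k.BL heB
  set z := x * e * x⁻¹ with hz
  have hzL : z ∈ L := mul_mem (mul_mem hx heL) (inv_mem hx)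
  have hzm : Mv (V ⊓ ZJ) z := k.mv x hx hm e heB heP
  have hzU : ∀ u ∈ U, z * u * z⁻¹ * u⁻¹ ∈ V := by
    intro u hu
    have h1 := hUE e he _ (conj_mem_of_norm' hLU hx hu)
    have h2 := conj_mem_of_norm k.LV hx h1
    have e1 : x * (e * (x⁻¹ * u * x) * e⁻¹ * (x⁻¹ * u * x)⁻¹) * x⁻¹ = z * u * z⁻¹ * u⁻¹ := by
      rw [hz]; group
    rwa [e1] at h2
  intro g hg v hv
  have hvU := hV'U hv
  -- `w = z v z⁻¹ v⁻¹ ∈ V`
  have hw := hzU v hvU
  set w := z * v * z⁻¹ * v⁻¹ with hwdef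
  have hgw : g * w = w * g := Bl.P_cent hg hw
  have hzv : z * v * z⁻¹ = w * v := by rw [hwdef]; group
  have hwv : w * v = v * w := f.Yc w (k.VY hw) v (k'.VY hv)
  have h1 : g * (z * v * z⁻¹) * g⁻¹ * (z * v * z⁻¹)⁻¹ = g * v * g⁻¹ * v⁻¹ := by
    rw [hzv, hwv]; exact comm_drop hgw
  have hh : z⁻¹ * g * z ∈ cB B V := conj_mem_of_norm' k.LP hzL hg
  have h2 : z⁻¹ * (g * v * g⁻¹ * v⁻¹) * z =
      (z⁻¹ * g * z) * v * (z⁻¹ * g * z)⁻¹ * v⁻¹ := by
    rw [← h1]; group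
  refine k.inter f hzL hzm (k'.quad g (cB_le B V hg) v hv) ?_
  rw [h2]
  exact k'.quad _ (cB_le B V hh) v hv

/-- Case (ii), second half. -/
theorem case_ii' [Finite G] (f : Fm S Y H B ZJ AA) (k : Bl S Y H B ZJ AA L V) (k' : Bl S Y H B ZJ AA L' V')
    (hne : cB B V ≠ cB B V')
    (h : ∀ g ∈ cB B V, ∀ v ∈ V', g * v * g⁻¹ * v⁻¹ ∈ centralizer (L : Set G)) :
    ∀ b ∈ B, ∀ v ∈ V', b * v * b⁻¹ * v⁻¹ ∈ centralizer (L : Set G) := by
  by_cases hcov : ∀ b ∈ B, ∃ p ∈ cB B V, ∃ p' ∈ cB B V', b = p * p'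
  · intro b hb v hv
    obtain ⟨p, hp, p', hp', rfl⟩ := hcov b hb
    rw [comm_drop' (Bl.P_cent hp' hv)]
    exact h p hp v hv
  exfalso
  -- `A ≤ P₁ ↔ A ≤ P₂`
  have hA12 : ∀ A ∈ AA, A ≤ cB B V → A ≤ cB B V' := by
    intro A hA hAP
    by_contra hAP'
    apply hcov
    obtain ⟨-, h1, -, -⟩ := k'.order f k'.VY le_rfl hA hAP'
    intro b hb
    obtain ⟨a, ha, p, hp, rfl⟩ := h1 b hb
    exact ⟨a, hAP ha, p, hp, rfl⟩
  have hA21 : ∀ A ∈ AA, A ≤ cB B V' → A ≤ cB B V := by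
    intro A hA hAP'
    by_contra hAP
    apply hcov
    obtain ⟨-, h1, -, -⟩ := k.order f k.VY le_rfl hA hAP
    intro b hb
    obtain ⟨a, ha, p, hp, e⟩ := h1 b⁻¹ (inv_mem hb)
    refine ⟨p⁻¹, inv_mem hp, a⁻¹, inv_mem (hAP' ha), ?_⟩
    rw [← mul_inv_rev, ← e, inv_inv]
  obtain ⟨A, hA, hAP⟩ := k.off
  have hAP' : ¬ A ≤ cB B V' := fun h1 => hAP (hA21 A hA h1)
  obtain ⟨h1, h2, h3, h4⟩ := k.order f k.VY le_rfl hA hAP
  obtain ⟨h1', h2', h3', h4'⟩ := k'.order f k'.VY le_rfl hA hAP'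
  have hi : A ⊓ cB B V ≤ cB B V' := hA12 _ (f.cutW le_rfl hA h4) inf_le_right
  have hi' : A ⊓ cB B V' ≤ cB B V := hA21 _ (f.cutW le_rfl hA h4') inf_le_right
  have hi2 : A ⊓ cB B V = A ⊓ cB B V' :=
    le_antisymm (le_inf inf_le_left hi) (le_inf inf_le_left hi')
  -- `|P₁| = |P₂|`
  have hcard : Nat.card (cB B V) = Nat.card (cB B V') := by
    have hAB : A ≤ B := f.le A hA
    have e : ∀ {P : Subgroup G}, P ≤ B → (∀ b ∈ B, ∃ e ∈ A, ∃ p ∈ P, b = e * p) →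
        Nat.card B * Nat.card ↥(A ⊓ P) = Nat.card A * Nat.card P := by
      intro P hP hPd
      have h5 := Cfsg.Agent.Lib.ProductSet.card_mul_card_inf A P
      have h6 : (A : Set G) * (P : Set G) = (B : Set G) := by
        ext b
        constructor
        · rintro ⟨a, ha, p, hp, rfl⟩
          exact mul_mem (hAB ha) (hP hp)
        · intro hb
          obtain ⟨a, ha, p, hp, rfl⟩ := hPd b hb
          exact ⟨a, ha, p, hp, rfl⟩
      rw [h6] at h5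
      exact h5
    have e1 := e (cB_le B V) h2
    have e2 := e (cB_le B V') h2'
    rw [hi2, e2] at e1
    exact (Nat.eq_of_mul_eq_mul_left Nat.card_pos e1).symm
  have hnle : ¬ cB B V ≤ cB B V' := fun h5 => hne (Subgroup.eq_of_le_of_card_ge h5 hcard.ge)
  obtain ⟨g, hg, hg'⟩ := SetLike.not_le_iff_exists.1 hnle
  obtain ⟨a, ha, p, hp, e⟩ := h2' g (cB_le B V hg)
  have haB : a ∈ B := f.le A hA ha
  have haP' : a ∉ cB B V' := fun h5 => hg' (by rw [e]; exact mul_mem h5 hp)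
  apply haP'
  refine mem_cB.2 ⟨haB, fun v hv => ?_⟩
  -- `v = v₁ c`
  have hvc : v ∈ V ⊔ cW Y A := by
    rw [← h3, hi2, h3']
    exact mem_sup_left hv
  obtain ⟨v1, hv1, c, hc, rfl⟩ := mem_sup_comm
    (fun a ha b hb => f.Yc a (k.VY ha) b (cW_le Y A hb)) hvc
  have h5 := h g hg _ hv
  rw [e, comm_drop' (Bl.P_cent hp hv), comm_drop ((mem_cW.1 hc).2 a ha)] at h5
  have h6 := k.faith v1 hv1 a haB fun l hl => (mem_centralizer_iff.1 h5 l hl)
  have h7 := (mem_cW.1 hc).2 a ha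
  calc a * (v1 * c) = (a * v1) * c := by group
    _ = v1 * (a * c) := by rw [h6]; group
    _ = v1 * c * a := by rw [h7]; group

/-- **CLAIM.** `P₁ ≠ P₂ ⇒ [V₂, B] ≤ C(L₁)`. -/
theorem claim [Finite G] (f : Fm S Y H B ZJ AA) (k : Bl S Y H B ZJ AA L V) (k' : Bl S Y H B ZJ AA L' V')
    (hne : cB B V ≠ cB B V') : ∀ b ∈ B, ∀ v ∈ V', b * v * b⁻¹ * v⁻¹ ∈ centralizer (L : Set G) := by
  have hYn : ∀ y ∈ L, cj y Y = Y := fun y hy => cj_eq_of_mem_normalizer (k.LY hy)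
  set W : Subgroup G := V ⊔ ⨆ y : L, cj (y : G) V' with hWdef
  have hVW : V ≤ W := le_sup_left
  have hVW' : ∀ y ∈ L, cj y V' ≤ W := fun y hy =>
    (le_iSup (fun y : L => cj (y : G) V') ⟨y, hy⟩).trans le_sup_right
  have hWmin : ∀ X : Subgroup G, V ≤ X → (∀ y ∈ L, cj y V' ≤ X) → W ≤ X := fun X h1 h2 =>
    sup_le h1 (iSup_le fun y => h2 y y.2)
  have hWY : W ≤ Y := hWmin Y k.VY fun y hy => by
    have := cj_mono y k'.VY
    rwa [hYn y hy] at this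
  have hWn : L ≤ normalizer (W : Set G) := by
    intro l hl
    refine mem_normalizer_of_cj_le ?_
    rw [cj_le_iff]
    refine hWmin _ ?_ fun y hy => ?_
    · rw [← cj_le_iff, cj_eq_of_mem_normalizer (k.LV hl)]
      exact hVW
    · rw [← cj_le_iff, cj_cj]
      exact hVW' _ (mul_mem hl hy)
  obtain ⟨A, hA, hAP⟩ := k.off
  have hAB : A ≤ B := f.le A hA
  obtain ⟨h1, h2, h3, h4⟩ := k.order f hVW hWY hA hAP
  by_cases hcase : ∃ x ∈ L, Mv (V ⊓ ZJ) x ∧ ¬ A ⊓ cB B V ≤ cj x (cB B V')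
  · obtain ⟨x, hx, hm, hnle⟩ := hcase
    exact case_i f k k' hWY hVW' hWmin hWn hA hAP h4 hx hm hnle
  · push Not at hcase
    obtain ⟨x, hx, hm⟩ := k.ne
    refine case_ii' f k k' hne ?_
    refine case_ii f k k' (E := A) (F := cW W A) hAB hAP h2
      (fun c hc => ⟨hWY (cW_le W A hc), (mem_cW.1 hc).2⟩) hx hm ?_
    rw [← h3]
    intro v hv
    refine mem_cW.2 ⟨hVW' x hx hv, fun e he => ?_⟩
    obtain ⟨e', he', rfl⟩ := mem_cj_iff.1 (hcase x hx hm he)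
    obtain ⟨v', hv', rfl⟩ := mem_cj_iff.1 hv
    exact comm_conj (Bl.P_cent he' hv')

end

end Cfsg.Agent.Omega.NO3S.Level.Claim
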