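import Cfsg.Agent.Omega.NO3S.Level.Gamma
import Cfsg.Agent.Omega.NO3S.SN.Plug

/-!
# The end of `GammaFF` for one even-subset module, `m ≥ 3` (helper417)

`symBigH_of` : `SymBigH K H` from `SN.Two K`, for any frame `H` (THEOREM SN has no stage).
-/

set_option autoImplicit false

namespace Cfsg.Agent.Omega.NO3S.EndsSym

open Subgroup Cfsg Cfsg.Agent.ZN Cfsg.Agent.Omega.MinPar Cfsg.Agent.Omega.Frame Cfsg.Agent.Omega.FrameNOFF
open Cfsg.Agent.Omega.FrameFF (cv)
open Cfsg.Agent.Omega.FFThm (SymKM)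
open Cfsg.Agent.Omega.NO3S.Level

universe u

variable {K : Cls.{u}} {H : FrP.{u}}

/-- `SymBigH` for any frame, from `SN.Two`. -/
theorem symBigH_of (hH : ∀ (G : Type u) [Group G] [Finite G] (S : Sylow 2 G) (P : Subgroup G), H G S P → Hyp S P)
    (h2 : SN.Two K) : SymBigH K H := by
  intro G _ _ hK S P hP m hm M
  have h := hH G S P hP
  exact absurd h.nonLoc (SN.theoremSN h2 hK h.ctx S h.star hm M.toSymK)

theorem symBig_caseL (h2 : SN.Two K) : SymBigH K CaseLP := symBigH_of (fun _ _ _ _ _ h => (CaseL.hypN h).toHyp) h2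

end Cfsg.Agent.Omega.NO3S.EndsSym
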