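import Cfsg.Agent.Omega.NO3S.Level.Basic

/-!
# Levels: (T6) and `Ω₁(Z(J_{i+1})) = Z` for a natural module with `|Z| = q` (#16560 (1))

`K` a level, `K ≤ O₂(P)`, `Blk S P` (`OneLine/Abs.lean`), `A ∈ BO S K`, `A ≰ O₂(P)`:

* `card_eq` : `|A| = |A ∩ Q| |S : Q|`; `fix_eq` : `C_X(A ∩ Q) = V C_X(A)`; `inf_o2` : `A ∩ Q ∈ BO S K`;
  `sup_eq` : `A Q = S`;
* `zc_o2` : `Ω₁(Z(Q)) = V`;
* `zc_nxt` : `Ω₁(Z(nxt S K)) = Z`.
-/

set_option autoImplicit false
set_option linter.unusedSectionVars false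
set_option linter.unusedVariables false

namespace Cfsg.Agent.Omega.NO3S.Level

open Subgroup Cfsg Cfsg.Agent.ZN Cfsg.Agent.ZN.ChoiceBase Cfsg.Agent.Omega.MinPar
open Cfsg.Agent.Omega.NO1.BestOff (Best)
open Cfsg.Agent.Omega.NO3S.OneLine
open Cfsg.Agent.Omega.SQ1.Bau (elem_comm elem_sq mem_sup_comm card_sup_comm mem_sup_norm)
open Cfsg.Agent.PLocal.ElemAbSup Cfsg.Agent.PLocal.ThompsonJ
open Cfsg.Agent.MinSimple.VModule (zc_le zc_le_zl zl_le le_o2 le_normalizer_zl le_normalizer_o2)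

universe u

variable {G : Type u} [Group G] [Finite G] {S : Sylow 2 G} {P K : Subgroup G}

/-- The elements of `A ⊓ C(Ω₁(Z(K)))` lie in `O₂(P)`. -/
theorem inf_centralizer_le_o2 (hG : IsCharacteristicTwoType G) (hP : IsParS (S : Subgroup G) P)
    (hL : Lev (S : Subgroup G) K) (hK : K ≤ o2 P) {A : Subgroup G} (hA : A ≤ (S : Subgroup G)) :
    A ⊓ centralizer (zc K : Set G) ≤ A ⊓ o2 P := by
  refine le_inf inf_le_left ?_
  rw [← IsParS.inf_centralizer S hG hP]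
  refine inf_le_inf hA (centralizer_le ?_)
  exact (hP.isLoc.zl_le S hG).trans (hL.zc_o2_le hK (o2_le S hP.toIsPar))

theorem zl_le_zc_of_le (hG : IsCharacteristicTwoType G) (hP : IsParS (S : Subgroup G) P)
    (hL : Lev (S : Subgroup G) K) (hK : K ≤ o2 P) : zl (S : Subgroup G) P ≤ zc K :=
  (hP.isLoc.zl_le S hG).trans (hL.zc_o2_le hK (o2_le S hP.toIsPar))

namespace Blk

variable (hG : IsCharacteristicTwoType G) (h : Blk (S : Subgroup G) P) (hL : Lev (S : Subgroup G) K)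
  (hK : K ≤ o2 P) {A : Subgroup G} (hA : A ∈ BO (S : Subgroup G) K) (hAQ : ¬ A ≤ o2 P)
include hG h hL hK hA hAQ

/-- `V ∩ C_X(A) = Z` -/
theorem inf_fix : zl (S : Subgroup G) P ⊓ (zc K ⊓ centralizer (A : Set G)) = zc (S : Subgroup G) := by
  apply le_antisymm
  · rintro v ⟨hv, -, hvA⟩
    obtain ⟨a, ha, haQ⟩ := SetLike.not_le_iff_exists.1 hAQ
    exact h.fix a (hA.1 ha) haQ v hv (mem_centralizer_iff.1 hvA a ha)
  · refine le_inf (zc_le_zl _ _) (le_inf hL.zc_le fun z hz => ?_)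
    exact mem_centralizer_iff.2 fun a ha => (ChoiceBase.mem_zc.1 hz).2.2 a (hA.1 ha)

theorem card_sup_fix : Nat.card ↥(zl (S : Subgroup G) P ⊔ (zc K ⊓ centralizer (A : Set G))) =
    (o2 P).relIndex (S : Subgroup G) * Nat.card ↥(zc K ⊓ centralizer (A : Set G)) := by
  have h1 := card_sup_comm (A := zl (S : Subgroup G) P) (B := zc K ⊓ centralizer (A : Set G))
    fun v hv w hw => Lev.zc_comm (zl_le_zc_of_le hG h.star hL hK hv) hw.1
  rw [inf_fix hG h hL hK hA hAQ, h.card] at h1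
  have hp : 0 < Nat.card (zc (S : Subgroup G)) := Nat.card_pos
  refine Nat.eq_of_mul_eq_mul_right hp ?_
  rw [h1]; ring

theorem sup_fix_le : zl (S : Subgroup G) P ⊔ (zc K ⊓ centralizer (A : Set G)) ≤
    zc K ⊓ centralizer ((A ⊓ o2 P : Subgroup G) : Set G) := by
  refine sup_le (le_inf (zl_le_zc_of_le hG h.star hL hK) fun v hv => ?_)
    (le_inf inf_le_left (inf_le_right.trans (centralizer_le inf_le_left)))
  exact mem_centralizer_iff.2 fun a ha => OneLine.Blk.comm_o2 hG h a ha.2 v hv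

/-- All the inequalities are equalities. -/
theorem count : Nat.card A = Nat.card ↥(A ⊓ o2 P) * (o2 P).relIndex (S : Subgroup G) ∧
    Nat.card ↥(A ⊓ o2 P) * Nat.card ↥(zc K ⊓ centralizer ((A ⊓ o2 P : Subgroup G) : Set G)) =
      Nat.card A * Nat.card ↥(zc K ⊓ centralizer (A : Set G)) ∧
    zc K ⊓ centralizer ((A ⊓ o2 P : Subgroup G) : Set G) =
      zl (S : Subgroup G) P ⊔ (zc K ⊓ centralizer (A : Set G)) := by
  have h1 := hA.2.max (A ⊓ o2 P) inf_le_left (inf_centralizer_le_o2 hG h.star hL hK hA.1)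
  have h2 := card_sup_fix hG h hL hK hA hAQ
  have h3 := sup_fix_le hG h hL hK hA hAQ
  have h4 := Subgroup.card_le_of_le h3
  have h5 := OneLine.Blk.card_le h hA.1
  rw [h2] at h4
  have hp1 : 0 < Nat.card ↥(A ⊓ o2 P) := Nat.card_pos
  have hp2 : 0 < Nat.card ↥(zc K ⊓ centralizer (A : Set G)) := Nat.card_pos
  have e1 : Nat.card A = Nat.card ↥(A ⊓ o2 P) * (o2 P).relIndex (S : Subgroup G) := by
    refine le_antisymm h5 ?_
    refine Nat.le_of_mul_le_mul_right ?_ hp2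
    calc Nat.card ↥(A ⊓ o2 P) * (o2 P).relIndex (S : Subgroup G) * Nat.card ↥(zc K ⊓ centralizer (A : Set G))
        = Nat.card ↥(A ⊓ o2 P) * ((o2 P).relIndex (S : Subgroup G) *
          Nat.card ↥(zc K ⊓ centralizer (A : Set G))) := by ring
      _ ≤ Nat.card ↥(A ⊓ o2 P) * Nat.card ↥(zc K ⊓ centralizer ((A ⊓ o2 P : Subgroup G) : Set G)) :=
          Nat.mul_le_mul_left _ h4
      _ ≤ _ := h1
  have e2 : Nat.card ↥(zc K ⊓ centralizer ((A ⊓ o2 P : Subgroup G) : Set G)) =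
      (o2 P).relIndex (S : Subgroup G) * Nat.card ↥(zc K ⊓ centralizer (A : Set G)) := by
    refine le_antisymm ?_ h4
    refine Nat.le_of_mul_le_mul_left ?_ hp1
    refine h1.trans (le_of_eq ?_)
    rw [e1]; ring
  refine ⟨e1, ?_, ?_⟩
  · rw [e2, e1]; ring
  · symm
    refine Subgroup.eq_of_le_of_card_ge h3 ?_
    rw [h2, e2]

/-- `|A| = |A ∩ Q| |S : Q|` -/
theorem card_eq : Nat.card A = Nat.card ↥(A ⊓ o2 P) * (o2 P).relIndex (S : Subgroup G) :=
  (count hG h hL hK hA hAQ).1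

/-- `C_X(A ∩ Q) = V C_X(A)` -/
theorem fix_eq : zc K ⊓ centralizer ((A ⊓ o2 P : Subgroup G) : Set G) =
    zl (S : Subgroup G) P ⊔ (zc K ⊓ centralizer (A : Set G)) := (count hG h hL hK hA hAQ).2.2

/-- `A ∩ Q` is a best offender. -/
theorem inf_o2 : A ⊓ o2 P ∈ BO (S : Subgroup G) K := by
  refine ⟨inf_le_left.trans hA.1, NO1.BestOff.ElemM.mono hA.2.toElemM inf_le_left, fun Y hY hYc => ?_⟩
  rw [(count hG h hL hK hA hAQ).2.1]
  refine hA.2.max Y (hY.trans inf_le_left) (le_trans (le_inf ?_ inf_le_right) hYc)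
  exact inf_centralizer_le_o2 hG h.star hL hK hA.1

/-- `A Q = S` -/
theorem sup_eq : A ⊔ o2 P = (S : Subgroup G) := by
  have hle := sup_le hA.1 (o2_le S h.star.toIsPar)
  refine Subgroup.eq_of_le_of_card_ge hle ?_
  have h1 := card_sup_norm (H := A) (N := o2 P) (hA.1.trans (OneLine.Blk.S_norm h))
  have h2 := card_eq hG h hL hK hA hAQ
  have h3 := card_mul_relIndex (o2_le S h.star.toIsPar)
  rw [h2] at h1
  have hp : 0 < Nat.card ↥(A ⊓ o2 P) := Nat.card_pos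
  have e : Nat.card ↥(A ⊔ o2 P) * Nat.card ↥(A ⊓ o2 P) = Nat.card (S : Subgroup G) * Nat.card ↥(A ⊓ o2 P) := by
    rw [h1, ← h3]; ring
  exact (Nat.eq_of_mul_eq_mul_right hp e).ge

/-- (T6) `Ω₁(Z(Q)) = V`. -/
theorem zc_o2 : zc (o2 P) = zl (S : Subgroup G) P := by
  have hQS := o2_le S h.star.toIsPar
  refine le_antisymm (fun y hy => ?_) (OneLine.Blk.zl_le_zc hG h)
  have hy' := ChoiceBase.mem_zc.1 hy
  have h1 : y ∈ zc K ⊓ centralizer ((A ⊓ o2 P : Subgroup G) : Set G) :=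
    ⟨hL.zc_o2_le hK hQS hy, mem_centralizer_iff.2 fun a ha => hy'.2.2 a ha.2⟩
  rw [fix_eq hG h hL hK hA hAQ] at h1
  obtain ⟨v, hv, c, hc, rfl⟩ := mem_sup_comm (A := zl (S : Subgroup G) P)
    (B := zc K ⊓ centralizer (A : Set G))
    (fun v hv w hw => Lev.zc_comm (zl_le_zc_of_le hG h.star hL hK hv) hw.1) h1
  refine mul_mem hv (zc_le_zl _ _ (ChoiceBase.mem_zc.2 ?_))
  have hvz := OneLine.Blk.zl_le_zc hG h hv
  have hcz : c ∈ zc (o2 P) := by
    have := mul_mem (inv_mem hvz) hy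
    rwa [inv_mul_cancel_left] at this
  refine ⟨hQS (ChoiceBase.mem_zc.1 hcz).1, (ChoiceBase.mem_zc.1 hcz).2.1, fun s hs => ?_⟩
  rw [← sup_eq hG h hL hK hA hAQ] at hs
  obtain ⟨a, ha, x, hx, rfl⟩ := mem_sup_norm (hA.1.trans (OneLine.Blk.S_norm h)) hs
  have e1 := mem_centralizer_iff.1 hc.2 a ha
  have e2 := (ChoiceBase.mem_zc.1 hcz).2.2 x hx
  calc a * x * c = a * (x * c) := mul_assoc _ _ _
    _ = (a * c) * x := by rw [e2, mul_assoc]
    _ = c * (a * x) := by rw [e1, mul_assoc]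

omit hA hAQ in
/-- The subgroup generated by the best offenders in `O₂(P)` is normal in `P`. -/
theorem le_norm_RR : P ≤ normalizer ((sSup {B | B ∈ BO (S : Subgroup G) K ∧ B ≤ o2 P} : Subgroup G) : Set G) := by
  intro p hp
  apply mem_normalizer_of_cj_le
  rw [cj, Subgroup.map_le_iff_le_comap]
  refine sSup_le fun B hB => ?_
  rw [← Subgroup.map_le_iff_le_comap]
  have h1 : cj p B ≤ o2 P := by
    have := cj_mono p hB.2
    rwa [cj_eq_of_mem_normalizer (le_normalizer_o2 P hp)] at this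
  have h2 : cj p B ∈ BO (S : Subgroup G) K :=
    BO.conj hB.1 (hL.le_norm_of_o2 hK (o2_le S h.star.toIsPar) hp) (h1.trans (o2_le S h.star.toIsPar))
  exact le_sSup (show cj p B ∈ {B | B ∈ BO (S : Subgroup G) K ∧ B ≤ o2 P} from ⟨h2, h1⟩)

/-- **`Ω₁(Z(J_{i+1})) = Z`.** -/
theorem zc_nxt (hsq : Nat.card (zl (S : Subgroup G) P) = Nat.card (zc (S : Subgroup G)) ^ 2)
    {x : G} (hx : x ∈ P) (hxZ : zc (S : Subgroup G) ⊓ cj x (zc (S : Subgroup G)) = ⊥) :
    zc (nxt (S : Subgroup G) K) = zc (S : Subgroup G) := by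
  have hQS := o2_le S h.star.toIsPar
  have hA' := inf_o2 hG h hL hK hA hAQ
  set Z := zc (S : Subgroup G) with hZ
  set V := zl (S : Subgroup G) P with hV
  set R : Subgroup G := sSup {B | B ∈ BO (S : Subgroup G) K ∧ B ≤ o2 P} with hR
  have hRQ : R ≤ o2 P := sSup_le fun B hB => hB.2
  set Y : Subgroup G := zc K ⊓ centralizer (R : Set G) with hY
  have hYX : Y ≤ zc K := inf_le_left
  have hYc : ∀ y ∈ Y, ∀ w ∈ Y, y * w = w * y := fun y hy w hw => Lev.zc_comm (hYX hy) (hYX hw)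
  have hVX : V ≤ zc K := zl_le_zc_of_le hG h.star hL hK
  have hVY : V ≤ Y := fun v hv => ⟨hVX hv, mem_centralizer_iff.2 fun y hy =>
    OneLine.Blk.comm_o2 hG h y (hRQ hy) v hv⟩
  have hYA' : Y ≤ V ⊔ (zc K ⊓ centralizer (A : Set G)) := by
    rw [← fix_eq hG h hL hK hA hAQ]
    refine le_inf inf_le_left (inf_le_right.trans (centralizer_le ?_))
    exact le_sSup (show A ⊓ o2 P ∈ {B | B ∈ BO (S : Subgroup G) K ∧ B ≤ o2 P} from ⟨hA', inf_le_right⟩)
  have hPK : P ≤ normalizer (K : Set G) := hL.le_norm_of_o2 hK hQS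
  have hPY : P ≤ normalizer (Y : Set G) := by
    intro p hp
    apply mem_normalizer_of_cj_le
    rw [cj_inf, cj_centralizer, cj_eq_of_mem_normalizer (normalizer_le_zc K (hPK hp)),
      cj_eq_of_mem_normalizer (le_norm_RR hG h hL hK hp)]
  have hPV : P ≤ normalizer (V : Set G) := le_normalizer_zl _ _
  -- `C_Y(A)`
  let YA : Subgroup G := Y ⊓ centralizer (A : Set G)
  have hYsplit : ∀ y ∈ Y, ∃ v ∈ V, ∃ c ∈ YA, y = v * c := by
    intro y hy
    obtain ⟨v, hv, a, ha, rfl⟩ := mem_sup_comm (A := V) (B := zc K ⊓ centralizer (A : Set G))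
      (fun v hv w hw => Lev.zc_comm (hVX hv) hw.1) (hYA' hy)
    refine ⟨v, hv, a, ⟨?_, ha.2⟩, rfl⟩
    have h1 := mul_mem (inv_mem (hVY hv)) hy
    rwa [inv_mul_cancel_left] at h1
  have hVYA : V ⊓ YA = Z := by
    apply le_antisymm
    · rintro v ⟨hv, -, hvA⟩
      obtain ⟨a, ha, haQ⟩ := SetLike.not_le_iff_exists.1 hAQ
      exact h.fix a (hA.1 ha) haQ v hv (mem_centralizer_iff.1 hvA a ha)
    · refine le_inf (zc_le_zl _ _) (le_inf ((zc_le_zl _ _).trans hVY) fun z hz => ?_)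
      exact mem_centralizer_iff.2 fun a ha => (ChoiceBase.mem_zc.1 hz).2.2 a (hA.1 ha)
  have hVsupYA : V ⊔ YA = Y := by
    apply le_antisymm (sup_le hVY inf_le_left)
    intro y hy
    obtain ⟨v, hv, c, hc, rfl⟩ := hYsplit y hy
    exact mul_mem_sup hv hc
  have hcYA : Nat.card Y * Nat.card Z = Nat.card V * Nat.card YA := by
    have h1 := card_sup_comm (A := V) (B := YA) fun v hv c hc => hYc v (hVY hv) c hc.1
    rwa [hVsupYA, hVYA] at h1
  have hYY : Nat.card Y = Nat.card Z * Nat.card YA := by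
    have hp : 0 < Nat.card Z := Nat.card_pos
    rw [hsq] at hcYA
    have e : Nat.card Y * Nat.card Z = Nat.card Z * Nat.card YA * Nat.card Z := by rw [hcYA]; ring
    exact Nat.eq_of_mul_eq_mul_right hp e
  -- `D = C_Y(⟨A, A^x⟩)`
  have hxY : cj x Y = Y := cj_eq_of_mem_normalizer (hPY hx)
  have hxV : cj x V = V := cj_eq_of_mem_normalizer (hPV hx)
  let YB : Subgroup G := cj x YA
  have hYB : YB ≤ Y := by
    have h1 : cj x YA ≤ cj x Y := cj_mono x inf_le_left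
    rwa [hxY] at h1
  have hcYB : Nat.card YB = Nat.card YA := card_cj _ _
  let C : Subgroup G := YA ⊓ YB
  have hVC : V ⊓ C = ⊥ := by
    rw [eq_bot_iff, ← hxZ]
    rintro v ⟨hv, hvA, hvB⟩
    refine ⟨hVYA ▸ ⟨hv, hvA⟩, ?_⟩
    rw [← hVYA, cj_inf, hxV]
    exact ⟨hv, hvB⟩
  have hCcard : Nat.card Y ≤ Nat.card V * Nat.card C := by
    have h1 := card_sup_comm (A := YA) (B := YB) fun a ha b hb => hYc a ha.1 b (hYB hb)
    have h2 : Nat.card ↥(YA ⊔ YB) ≤ Nat.card Y := Subgroup.card_le_of_le (sup_le inf_le_left hYB)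
    have h3 : Nat.card YA * Nat.card YB ≤ Nat.card Y * Nat.card C := by
      rw [← h1]
      exact Nat.mul_le_mul_right _ h2
    rw [hcYB] at h3
    have hp : 0 < Nat.card YA := Nat.card_pos
    rw [hYY, hsq]
    rw [hYY] at h3
    have e : Nat.card YA * Nat.card YA ≤ Nat.card YA * (Nat.card Z * Nat.card C) := by
      calc _ ≤ Nat.card Z * Nat.card YA * Nat.card C := h3
        _ = _ := by ring
    have h4 := Nat.le_of_mul_le_mul_left e hp
    calc Nat.card Z * Nat.card YA ≤ Nat.card Z * (Nat.card Z * Nat.card C) := Nat.mul_le_mul_left _ h4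
      _ = Nat.card Z ^ 2 * Nat.card C := by ring
  have hVsupC : V ⊔ C = Y := by
    refine Subgroup.eq_of_le_of_card_ge (sup_le hVY (inf_le_left.trans inf_le_left)) ?_
    have h1 := card_sup_comm (A := V) (B := C) fun v hv c hc => hYc v (hVY hv) c hc.1.1
    rw [hVC, Subgroup.card_bot, mul_one] at h1
    rw [h1]
    exact hCcard
  -- the final argument
  have hZN : Z ≤ zc (nxt (S : Subgroup G) K) := hL.next.zc_le
  refine le_antisymm ?_ hZN
  by_contra hne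
  obtain ⟨y, hy, hyZ, hyS⟩ := exists_fixed (M := Z) S.isPGroup' ((zc_le _).trans (nxt_le _ _) :
    zc (nxt (S : Subgroup G) K) ≤ (S : Subgroup G))
    (hL.next.S_norm.trans (normalizer_le_zc _)) hne
  have hy' := ChoiceBase.mem_zc.1 hy
  have hyX : y ∈ zc K := hL.zc_le_zc (le_nxt hL.le) (nxt_le _ _) hy
  have hyY : y ∈ Y := ⟨hyX, mem_centralizer_iff.2 fun w hw => hy'.2.2 w
    (((sSup_le fun B hB => BO.le_nxt hB.1) : R ≤ nxt (S : Subgroup G) K) hw)⟩
  have hyA1 : y ∈ YA := ⟨hyY, mem_centralizer_iff.2 fun a ha => hy'.2.2 a (BO.le_nxt hA ha)⟩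
  obtain ⟨z, hz, c, hc, hyzc⟩ : ∃ z ∈ Z, ∃ c ∈ C, y = z * c := by
    rw [← hVsupC] at hyY
    obtain ⟨v, hv, c, hc, rfl⟩ := mem_sup_comm (A := V) (B := C)
      (fun v hv c hc => hYc v (hVY hv) c hc.1.1) hyY
    refine ⟨v, ?_, c, hc, rfl⟩
    rw [← hVYA]
    refine ⟨hv, ?_⟩
    have h1 := mul_mem hyA1 (inv_mem hc.1)
    rwa [mul_inv_cancel_right] at h1
  have hcZ : c ∉ Z := fun h1 => hyZ (hyzc ▸ mul_mem hz h1)
  have hcY : c ∈ Y := hc.1.1
  have hcQ0 : c ∈ o2 P := hK ((zc_le _) (hYX hcY))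
  have hcS : ∀ s ∈ (S : Subgroup G), s * c * s⁻¹ * c⁻¹ ∈ Z := by
    intro s hs
    have h1 := hyS s hs
    have h2 : s * z = z * s := (ChoiceBase.mem_zc.1 hz).2.2 s hs
    have e : s * y * s⁻¹ * y⁻¹ = s * c * s⁻¹ * c⁻¹ := by
      rw [hyzc]
      have h4 : s * (z * c) * s⁻¹ * (z * c)⁻¹ = (s * z) * c * s⁻¹ * c⁻¹ * z⁻¹ := by group
      have h5 : z * (s * c * s⁻¹ * c⁻¹) = s * c * s⁻¹ * c⁻¹ * z := by
        have h6 : s * c * s⁻¹ * c⁻¹ ∈ (S : Subgroup G) :=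
          mul_mem (mul_mem (mul_mem hs (hQS hcQ0)) (inv_mem hs)) (inv_mem (hQS hcQ0))
        exact ((ChoiceBase.mem_zc.1 hz).2.2 _ h6).symm
      rw [h4, h2]
      calc z * s * c * s⁻¹ * c⁻¹ * z⁻¹ = z * (s * c * s⁻¹ * c⁻¹) * z⁻¹ := by group
        _ = s * c * s⁻¹ * c⁻¹ := by rw [h5]; group
    rwa [e] at h1
  -- `c` centralises `Q`
  obtain ⟨a₀, ha₀, ha₀Q⟩ := SetLike.not_le_iff_exists.1 hAQ
  have hcQ : ∀ t ∈ o2 P, t * c = c * t := by
    intro t ht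
    have hbP : x * a₀ * x⁻¹ ∈ P := mul_mem (mul_mem hx (h.star.le (hA.1 ha₀))) (inv_mem hx)
    set b := x * a₀ * x⁻¹ with hb
    have hbc : b * c = c * b := by
      have h1 : c ∈ YB := hc.2
      have h2 : c ∈ cj x (centralizer (A : Set G)) := cj_mono x inf_le_right h1
      rw [mem_cj, mem_centralizer_iff] at h2
      have h3 := h2 a₀ ha₀
      have h4 : x * (a₀ * (x⁻¹ * c * x)) * x⁻¹ = x * (x⁻¹ * c * x * a₀) * x⁻¹ := by rw [h3]
      rw [hb]
      calc x * a₀ * x⁻¹ * c = x * (a₀ * (x⁻¹ * c * x)) * x⁻¹ := by group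
        _ = x * (x⁻¹ * c * x * a₀) * x⁻¹ := h4
        _ = c * (x * a₀ * x⁻¹) := by group
    set e := t * c * t⁻¹ * c⁻¹ with he
    have heZ : e ∈ Z := hcS t (hQS ht)
    have heV : e ∈ V := zc_le_zl _ _ heZ
    have heZ' : b * e * b⁻¹ ∈ Z := by
      have h1 : b * t * b⁻¹ ∈ o2 P := conj_mem (le_normalizer_o2 P) hbP ht
      have h2 := hcS _ (hQS h1)
      have h3 : b * c * b⁻¹ = c := by rw [hbc]; group
      have h4 : b * e * b⁻¹ = (b * t * b⁻¹) * (b * c * b⁻¹) * (b * t * b⁻¹)⁻¹ * (b * c * b⁻¹)⁻¹ := by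
        rw [he]; group
      rw [h4, h3]
      exact h2
    -- `[b, e] ∈ Z ∩ Z^x = 1`
    have h1 : b * e * b⁻¹ * e⁻¹ ∈ Z ⊓ cj x Z := by
      refine mem_inf.2 ⟨mul_mem heZ' (inv_mem heZ), ?_⟩
      rw [mem_cj]
      have h2 : x⁻¹ * e * x ∈ V := by
        have := conj_mem hPV (inv_mem hx) heV
        rwa [inv_inv] at this
      have h3 := h.comm a₀ (hA.1 ha₀) _ h2
      have h4 : x⁻¹ * (b * e * b⁻¹ * e⁻¹) * x = a₀ * (x⁻¹ * e * x) * a₀⁻¹ * (x⁻¹ * e * x)⁻¹ := by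
        rw [hb]; group
      rw [h4]
      exact h3
    rw [hxZ, mem_bot] at h1
    have h2 : e ∈ cj x Z := by
      rw [mem_cj]
      have h3 : x⁻¹ * e * x ∈ V := by
        have := conj_mem hPV (inv_mem hx) heV
        rwa [inv_inv] at this
      refine h.fix a₀ (hA.1 ha₀) ha₀Q _ h3 ?_
      have h4 : b * e = e * b := by
        have := mul_inv_eq_one.1 h1
        calc b * e = b * e * b⁻¹ * b := by group
          _ = e * b := by rw [this]
      have h5 : x⁻¹ * (b * e) * x = x⁻¹ * (e * b) * x := by rw [h4]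
      calc a₀ * (x⁻¹ * e * x) = x⁻¹ * (b * e) * x := by rw [hb]; group
        _ = x⁻¹ * (e * b) * x := h5
        _ = x⁻¹ * e * x * a₀ := by rw [hb]; group
    have h3 : e ∈ Z ⊓ cj x Z := ⟨heZ, h2⟩
    rw [hxZ, mem_bot, he] at h3
    have := mul_inv_eq_one.1 h3
    calc t * c = t * c * t⁻¹ * t := by group
      _ = c * t := by rw [this]
  have hcV : c ∈ V := by
    rw [hV, ← zc_o2 hG h hL hK hA hAQ]
    exact ChoiceBase.mem_zc.2 ⟨hcQ0, (ChoiceBase.mem_zc.1 (hYX hcY)).2.1, hcQ⟩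
  have h1 : c ∈ V ⊓ C := ⟨hcV, hc⟩
  rw [hVC, mem_bot] at h1
  exact hcZ (h1 ▸ one_mem _)

end Blk

end Cfsg.Agent.Omega.NO3S.Level
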