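import Cfsg.Agent.Omega.OM.Lev.Uni

/-!
# UNIQ from the frames `FrL` (helper109)

* `V_le` : two frames over the same `(B, X)` have the same `V`;
* `exists_fix` : `q = 2`: a group `R` which normalises `B` and `X` centralises a nontrivial element of `ZJ` (the product of
  the generators of the `Z i`).
-/

set_option autoImplicit false

namespace Cfsg.Agent.Omega.NO3S.Level.Uniq

open Subgroup Cfsg Cfsg.Agent.ZN Cfsg.Agent.ZN.ChoiceBase
open Cfsg.Agent.Omega.SQ1.Bau (elem_comm elem_sq)
open Cfsg.Agent.Omega.OM.Uni Cfsg.Agent.Omega.OM.Lev.Uni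

universe u

variable {G : Type u} [Group G] {ι ι' : Type*}

theorem V_le [Finite G] [Finite ι'] {B Q Q' V V' X ZJ ZJ' : Subgroup G} {L W Z C A : ι → Subgroup G}
    {L' W' Z' C' A' : ι' → Subgroup G} {q q' : ℕ} (h : FrL B Q V X ZJ L W Z C A q)
    (h' : FrL B Q' V' X ZJ' L' W' Z' C' A' q') : V' ≤ V := by
  rw [h'.V_eq]
  exact iSup_le fun i => h.le_V (h'.blk i).toMd ((h'.WV i).trans h'.VX)

theorem V_eq [Finite G] [Finite ι] [Finite ι'] {B Q Q' V V' X ZJ ZJ' : Subgroup G} {L W Z C A : ι → Subgroup G}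
    {L' W' Z' C' A' : ι' → Subgroup G} {q q' : ℕ} (h : FrL B Q V X ZJ L W Z C A q)
    (h' : FrL B Q' V' X ZJ' L' W' Z' C' A' q') : V' = V := le_antisymm (V_le h h') (V_le h' h)

variable {B Q V X ZJ : Subgroup G} {L W Z C A : ι → Subgroup G}

/-- `q = 2`: a group normalising `B` and `X` has a nontrivial fixed point in `ZJ`. -/
theorem exists_fix [Finite G] [Finite ι] [Nonempty ι] (h : FrL B Q V X ZJ L W Z C A 2) {R : Subgroup G}
    (hB : R ≤ normalizer (B : Set G)) (hX : R ≤ normalizer (X : Set G)) :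
    ∃ z ∈ ZJ, z ≠ 1 ∧ ∀ g ∈ R, g * z = z * g := by
  classical
  have := Fintype.ofFinite ι
  -- the generators
  have hex : ∀ i, ∃ x ∈ Z i, x ≠ 1 ∧ ∀ y ∈ Z i, y ≠ 1 → y = x := by
    intro i
    have h2 := h.cardZ i
    rw [Nat.card_eq_two_iff' (1 : Z i)] at h2
    obtain ⟨y, hy, hu⟩ := h2
    exact ⟨y, y.2, fun e => hy (Subtype.ext e), fun w hw hw1 =>
      congrArg Subtype.val (hu ⟨w, hw⟩ fun e => hw1 (congrArg Subtype.val e))⟩
  choose x hx hx1 hxu using hex
  have hxJ : ∀ i, x i ∈ ZJ := fun i => h.Z_le i (hx i)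
  have hc : ∀ a ∈ ZJ, ∀ b ∈ ZJ, a * b = b * a := fun a ha b hb => h.Vc (h.ZJV ha) (h.ZJV hb)
  let _ : CommGroup ZJ := { (inferInstance : Group ZJ) with
    mul_comm := fun a b => Subtype.ext (hc a a.2 b b.2) }
  let y : ι → ZJ := fun i => ⟨x i, hxJ i⟩
  have hCJ : ∀ i, ∀ s : Finset ι, i ∉ s → ((∏ j ∈ s, y j : ZJ) : G) ∈ C i := by
    intro i s
    induction s using Finset.induction_on with
    | empty => intro _; exact one_mem _
    | insert j s hj ih =>
      intro hi
      rw [Finset.prod_insert hj]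
      have hij : i ≠ j := fun e => hi (by rw [e]; exact Finset.mem_insert_self _ _)
      exact mul_mem (h.WjC i j hij ((h.blk j).ZV (hx j))) (ih fun e => hi (Finset.mem_insert_of_mem e))
  refine ⟨((∏ j, y j : ZJ) : G), (∏ j, y j : ZJ).2, ?_, ?_⟩
  · intro h1
    obtain ⟨i⟩ := (inferInstance : Nonempty ι)
    have h2 : (∏ j, y j : ZJ) = y i * ∏ j ∈ Finset.univ.erase i, y j :=
      (Finset.mul_prod_erase Finset.univ y (Finset.mem_univ i)).symm
    have h3 := congrArg (fun t : ZJ => (t : G)) h2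
    have h4 : (1 : G) = x i * ((∏ j ∈ Finset.univ.erase i, y j : ZJ) : G) := h1.symm.trans h3
    have h5 := h.uniq (i := i) (one_mem _) ((h.blk i).ZV (hx i)) (one_mem _)
      (hCJ i _ (Finset.notMem_erase i _)) (by rw [one_mul]; exact h4)
    exact hx1 i h5.1.symm
  · intro g hg
    -- `g` permutes the `Z i`
    have hgZ : ∀ i, ∃ j, g * x i * g⁻¹ = x j := by
      intro i
      obtain ⟨-, h1⟩ := h.norm_of (hB hg) (hX hg)
      obtain ⟨j, hj, -⟩ := h1 i
      refine ⟨j, hxu j _ ?_ ?_⟩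
      · rw [← hj]
        exact ⟨x i, hx i, rfl⟩
      · intro e
        apply hx1 i
        have : x i = g⁻¹ * (g * x i * g⁻¹) * g := by group
        rw [this, e]; group
    choose σ hσ using hgZ
    have hinj : Function.Injective x := by
      intro i j e
      by_contra hij
      have h1 : x i ∈ W i ⊓ C i :=
        ⟨(h.blk i).ZV (hx i), by rw [e]; exact h.WjC i j hij ((h.blk j).ZV (hx j))⟩
      rw [h.dir i, mem_bot] at h1
      exact hx1 i h1
    have hσi : Function.Injective σ := by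
      intro i j e
      apply hinj
      have h1 : g * x i * g⁻¹ = g * x j * g⁻¹ := by rw [hσ, hσ, e]
      exact mul_left_cancel (mul_right_cancel h1)
    let τ : ι ≃ ι := Equiv.ofBijective σ (Finite.injective_iff_bijective.1 hσi)
    -- conjugation by `g`
    have key : ∀ s : Finset ι, g * ((∏ j ∈ s, y j : ZJ) : G) * g⁻¹ = ((∏ j ∈ s, y (τ j) : ZJ) : G) := by
      intro s
      induction s using Finset.induction_on with
      | empty =>
        rw [Finset.prod_empty, Finset.prod_empty]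
        show g * 1 * g⁻¹ = 1
        group
      | insert j s hj ih =>
        rw [Finset.prod_insert hj, Finset.prod_insert hj]
        show g * (x j * ((∏ j ∈ s, y j : ZJ) : G)) * g⁻¹ = x (σ j) * ((∏ j ∈ s, y (τ j) : ZJ) : G)
        rw [← ih, ← hσ]
        group
    have h1 := key Finset.univ
    rw [Equiv.prod_comp τ y] at h1
    exact mul_inv_eq_iff_eq_mul.1 h1

end Cfsg.Agent.Omega.NO3S.Level.Uniq
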