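import Cfsg.Agent.Omega.NO3S.Level.UniqFr
import Cfsg.Agent.Omega.NO3S.ThmB.Main
import Cfsg.Agent.Omega.NO3S.HypL

/-!
# UNIQ: `V_R = V_P` for all `R ∈ P*(S)`

* `act` : `P`, `R ∈ P*(S)` active at the level `K` (`K ≤ O₂`, `nxt S K ≰ O₂`), `C_Z(P) = C_Z(R) = 1`: `V_R = V_P`
  (every type, every `q`); `actJ` : the same at stage `-1`;
* `Two S P` : `V_P` of `F₂`-type (`SL₂(2)^k`, `k ≥ 1`, or `S_{2^m+1}^k`); `Two.zc` : then `|Z| = 2`;
* `pas`, `pasJ` : `P` active of `F₂`-type, `R` passive (`nxt S K ≤ O₂(R)`): `C_Z(R) ≠ 1`;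
* **`uniq`** : `HypL S P`, `Two S P`: `V_R = V_P` for all `R ∈ P*(S)`.
-/

set_option autoImplicit false
set_option linter.unusedSectionVars false

namespace Cfsg.Agent.Omega.NO3S.Level.UniqEnd

open Subgroup Cfsg Cfsg.Agent.ZN Cfsg.Agent.ZN.ChoiceBase Cfsg.Agent.Omega.MinPar
open Cfsg.Agent.PLocal.ThompsonJ
open Cfsg.Agent.Omega.NO3S.Level (Lev BO nxt lev lev_isLev)
open Cfsg.Agent.Omega.FFThm (NatKM SymKM NatK SymK OffM ElemM NoOverM StmtM ConclM)
open Cfsg.Agent.Omega.FrameFF (cv)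
open Cfsg.Agent.Omega.Frame
open Cfsg.Agent.Omega.NO3S.Level.UniqFr

universe u

variable {G : Type u} [Group G] [Finite G] {S : Sylow 2 G} {P R K X : Subgroup G}

/-- `V_P` of `F₂`-type. -/
def Two (S P : Subgroup G) : Prop :=
  (∃ (F : Type) (_ : Field F) (_ : Finite F) (_ : CharP F 2) (k : ℕ),
    0 < k ∧ Nat.card F = 2 ∧ Nonempty (NatKM F S P (zl S P) (cv S P) k)) ∨
  ∃ k m : ℕ, 0 < k ∧ 2 ≤ m ∧ Nonempty (SymKM S P (zl S P) (cv S P) k m)

theorem Two.concl {S P : Subgroup G} (h : Two S P) : ConclM S P := by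
  rcases h with ⟨F, i1, i2, i3, k, hk, -, N⟩ | h
  · exact Or.inl ⟨F, i1, i2, i3, k, hk, N⟩
  · exact Or.inr h

theorem Two.ty {S P : Subgroup G} (h : Two S P) : ThmB.Main.Ty S P := Or.inr h.concl

/-- `C_{V_P}(O²(P)) = 1` -/
theorem cv_bot (hG : IsCharacteristicTwoType G) (hP : IsParS (S : Subgroup G) P)
    (hcen : zc (S : Subgroup G) ⊓ centralizer (P : Set G) = ⊥) : cv (S : Subgroup G) P = ⊥ :=
  NoFF.LinesPlug.inf_oddGen_eq_bot hG S hP.toIsPar hcen

/-- `F₂`-type: `|Z| ≤ 2`. -/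
theorem Two.zc (hG : IsCharacteristicTwoType G) (hP : IsParS (S : Subgroup G) P)
    (hcen : zc (S : Subgroup G) ⊓ centralizer (P : Set G) = ⊥) (h : Two (S : Subgroup G) P) :
    ∀ z ∈ ZN.zc (S : Subgroup G), ∀ z' ∈ ZN.zc (S : Subgroup G), z ≠ 1 → z' ≠ 1 → z = z' := by
  intro z hz z' hz' h1 h1'
  have hcv := cv_bot hG hP hcen
  rcases h with ⟨F, i1, i2, i3, k, hk, h2, ⟨N⟩⟩ | ⟨k, m, hk, hm, ⟨N⟩⟩
  · have N' := N.toNatK
    rw [hcv] at N'
    have hu : ∀ β : F, β ≠ 0 → β = 1 := by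
      rw [Nat.card_eq_two_iff' (0 : F)] at h2
      obtain ⟨y, -, hy⟩ := h2
      exact fun β hβ => (hy β hβ).trans (hy 1 one_ne_zero).symm
    have hZ := ThmB.Main.zc_eq hG hP.isLoc
    have hzZ : z ∈ zl (S : Subgroup G) P ⊓ centralizer ((S : Subgroup G) : Set G) := by rw [hZ]; exact hz
    have hzZ' : z' ∈ zl (S : Subgroup G) P ⊓ centralizer ((S : Subgroup G) : Set G) := by rw [hZ]; exact hz'
    refine Cfsg.Agent.Omega.NO3S.ThmB.e_inj N' rfl hzZ.1 hzZ'.1 ?_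
    funext i
    have k1 := ThmB.TrNat.comp N' hzZ h1 i
    have k2 := ThmB.TrNat.comp N' hzZ' h1' i
    exact ThmB.vec_eq ((hu _ k1.2).trans (hu _ k2.2).symm) (k1.1.trans k2.1.symm)
  · exact ThmB.Main.sym_zc hG hP hcv hk (by omega) N.toSymK hz hz' h1 h1'

/-! ### Active members -/

/-- The frame of an active member at a level. -/
theorem fra_lev (hG : IsCharacteristicTwoType G) (hP : IsParS (S : Subgroup G) P)
    (hcen : zc (S : Subgroup G) ⊓ centralizer (P : Set G) = ⊥) (hL : Lev (S : Subgroup G) K) (hK : K ≤ o2 P)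
    (hn : ¬ nxt (S : Subgroup G) K ≤ o2 P) :
    ∃ q, Fra (S : Subgroup G) P
      ((S : Subgroup G) ⊓ centralizer ((ZN.zc (nxt (S : Subgroup G) K) : Subgroup G) : Set G))
      (ZN.zc K) (ZN.zc (nxt (S : Subgroup G) K)) q := by
  have hJ := ThmB.Inst.exists_BO hG hP hL hK hn
  obtain ⟨-, hc⟩ := NO3S.OneLine.exa_lev FF.Glob.ffthmM hG hP hL hK hcen hJ
  rcases hc with ⟨F, i1, i2, i3, k, hk, ⟨N⟩⟩ | ⟨k, m, hk, hm, ⟨N⟩⟩
  · exact ⟨_, fra_nat hG hP hcen hL hK hJ hk N⟩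
  · exact ⟨_, fra_sym hG hP hcen hL hK hJ hk hm N⟩

/-- The frame of an active member of `F₂`-type at a level. -/
theorem fra_lev_two (hG : IsCharacteristicTwoType G) (hP : IsParS (S : Subgroup G) P)
    (hcen : zc (S : Subgroup G) ⊓ centralizer (P : Set G) = ⊥) (hL : Lev (S : Subgroup G) K) (hK : K ≤ o2 P)
    (hn : ¬ nxt (S : Subgroup G) K ≤ o2 P) (h2 : Two (S : Subgroup G) P) :
    Fra (S : Subgroup G) P
      ((S : Subgroup G) ⊓ centralizer ((ZN.zc (nxt (S : Subgroup G) K) : Subgroup G) : Set G))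
      (ZN.zc K) (ZN.zc (nxt (S : Subgroup G) K)) 2 := by
  have hJ := ThmB.Inst.exists_BO hG hP hL hK hn
  rcases h2 with ⟨F, i1, i2, i3, k, hk, h2, ⟨N⟩⟩ | ⟨k, m, hk, hm, ⟨N⟩⟩
  · have := fra_nat hG hP hcen hL hK hJ hk N
    rwa [h2] at this
  · exact fra_sym hG hP hcen hL hK hJ hk hm N

/-- **Two active members at the same level have the same `V`** (all types). -/
theorem act (hG : IsCharacteristicTwoType G) (hP : IsParS (S : Subgroup G) P) (hR : IsParS (S : Subgroup G) R)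
    (hcP : zc (S : Subgroup G) ⊓ centralizer (P : Set G) = ⊥)
    (hcR : zc (S : Subgroup G) ⊓ centralizer (R : Set G) = ⊥) (hL : Lev (S : Subgroup G) K)
    (hKP : K ≤ o2 P) (hKR : K ≤ o2 R) (hnP : ¬ nxt (S : Subgroup G) K ≤ o2 P)
    (hnR : ¬ nxt (S : Subgroup G) K ≤ o2 R) : zl (S : Subgroup G) R = zl (S : Subgroup G) P := by
  obtain ⟨q, h⟩ := fra_lev hG hP hcP hL hKP hnP
  obtain ⟨q', h'⟩ := fra_lev hG hR hcR hL hKR hnR
  exact h.eq h'

/-- the type of a member with `J(S) ≰ O₂(R)` -/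
theorem concl_J (hG : IsCharacteristicTwoType G) (hP : IsParS (S : Subgroup G) P)
    (hJ : ¬ jj (S : Subgroup G) ≤ o2 P) : ConclM (S : Subgroup G) P := by
  have hV : zl (S : Subgroup G) P ≤ ZN.zc (o2 P) := hP.isLoc.zl_le S hG
  have hVS : zl (S : Subgroup G) P ≤ (S : Subgroup G) := (hV.trans (MinSimple.VModule.zc_le _)).trans (hP.isLoc.o2_le S)
  have hel : IsElementaryAbelian 2 (zl (S : Subgroup G) P) := isElementaryAbelian_mono (OneLine.zc_elem _) hV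
  have hex : ∃ A ∈ AA (S : Subgroup G), FFThm.Off (zl (S : Subgroup G) P) A := by
    by_contra hcon
    push Not at hcon
    apply hJ
    rw [jj_eq]
    refine sSup_le fun A hA => ?_
    by_contra hAc
    refine hcon A hA (FFThm.off_of_AA hel hVS hA fun hc => hAc ?_)
    rw [← IsParS.inf_centralizer S hG hP]
    exact le_inf hA.2.1 hc
  obtain ⟨A, hA, h2⟩ := hex
  exact (FF.Glob.ffthmM G (S : Subgroup G) P (OneLine.syl_of hP) hP.toIsMinPar (hP.isLoc.char2 S hG)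
    ⟨A, hA.2.1.trans hP.isLoc.le, h2.offM⟩).2

/-- The frame of an active member at stage `-1`. -/
theorem fra_J (hG : IsCharacteristicTwoType G) (hP : IsParS (S : Subgroup G) P)
    (hcen : zc (S : Subgroup G) ⊓ centralizer (P : Set G) = ⊥) (hJ : ¬ jj (S : Subgroup G) ≤ o2 P)
    (elX : IsElementaryAbelian 2 X) (VX : zl (S : Subgroup G) P ≤ X) (hX : P ≤ normalizer (X : Set G)) :
    ∃ q, Fra (S : Subgroup G) P (bau (S : Subgroup G)) X (zj (S : Subgroup G)) q := by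
  have hcv := cv_bot hG hP hcen
  rcases concl_J hG hP hJ with ⟨F, i1, i2, i3, k, hk, ⟨N⟩⟩ | ⟨k, m, hk, hm, ⟨N⟩⟩
  · exact ⟨_, fra_natJ hG hP hcv hJ hk N.toNatK elX VX hX⟩
  · exact ⟨_, fra_symJ hG hP hcv hJ hk (by omega) N.toSymK elX VX hX⟩

theorem fra_J_two (hG : IsCharacteristicTwoType G) (hP : IsParS (S : Subgroup G) P)
    (hcen : zc (S : Subgroup G) ⊓ centralizer (P : Set G) = ⊥) (hJ : ¬ jj (S : Subgroup G) ≤ o2 P)
    (h2 : Two (S : Subgroup G) P)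
    (elX : IsElementaryAbelian 2 X) (VX : zl (S : Subgroup G) P ≤ X) (hX : P ≤ normalizer (X : Set G)) :
    Fra (S : Subgroup G) P (bau (S : Subgroup G)) X (zj (S : Subgroup G)) 2 := by
  have hcv := cv_bot hG hP hcen
  rcases h2 with ⟨F, i1, i2, i3, k, hk, h2, ⟨N⟩⟩ | ⟨k, m, hk, hm, ⟨N⟩⟩
  · have := fra_natJ hG hP hcv hJ hk N.toNatK elX VX hX
    rwa [h2] at this
  · exact fra_symJ hG hP hcv hJ hk (by omega) N.toSymK elX VX hX

/-! ### `V_P V_R` -/

/-- `V_P ≤ Ω₁(Z(O₂(L)))` for `P ≤ L`, `L` local. -/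
theorem zl_le_zc {L : Subgroup G} (hG : IsCharacteristicTwoType G) (hL : IsLoc (S : Subgroup G) L) (hPL : P ≤ L) :
    zl (S : Subgroup G) P ≤ ZN.zc (o2 L) :=
  (MinSimple.VModule.zl_le (MinSimple.VModule.zc_le_zl _ _)
    (hPL.trans (MinSimple.VModule.le_normalizer_zl _ _))).trans (hL.zl_le S hG)

theorem norm_zc_o2 {L : Subgroup G} (hPL : P ≤ L) : P ≤ normalizer ((ZN.zc (o2 L) : Subgroup G) : Set G) :=
  (hPL.trans (MinSimple.VModule.le_normalizer_o2 L)).trans (Level.normalizer_le_zc _)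

/-- **Two active members at stage `-1` have the same `V`** (all types). -/
theorem actJ (hG : IsCharacteristicTwoType G) (hF : ¬ FF (S : Subgroup G)) (hP : IsParS (S : Subgroup G) P)
    (hR : IsParS (S : Subgroup G) R)
    (hcP : zc (S : Subgroup G) ⊓ centralizer (P : Set G) = ⊥)
    (hcR : zc (S : Subgroup G) ⊓ centralizer (R : Set G) = ⊥)
    (hJP : ¬ jj (S : Subgroup G) ≤ o2 P) (hJR : ¬ jj (S : Subgroup G) ≤ o2 R) :
    zl (S : Subgroup G) R = zl (S : Subgroup G) P := by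
  have hL := ThmB.Main.isLoc_sup hG hF hP hR
  obtain ⟨q, h⟩ := fra_J hG hP hcP hJP (OneLine.zc_elem (o2 (P ⊔ R))) (zl_le_zc hG hL le_sup_left) (norm_zc_o2 le_sup_left)
  obtain ⟨q', h'⟩ := fra_J hG hR hcR hJR (OneLine.zc_elem (o2 (P ⊔ R))) (zl_le_zc hG hL le_sup_right)
    (norm_zc_o2 le_sup_right)
  exact h.eq h'

/-! ### Passive members -/

/-- `R` normalises `C_S(E)` if `Z ≤ E` and `R` normalises `E ≤ S`. -/
theorem norm_cent (hG : IsCharacteristicTwoType G) (hR : IsParS (S : Subgroup G) R) {E : Subgroup G}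
    (hZE : zc (S : Subgroup G) ≤ E) (hE : R ≤ normalizer (E : Set G)) :
    R ≤ normalizer (((S : Subgroup G) ⊓ centralizer (E : Set G) : Subgroup G) : Set G) := by
  have hVE : zl (S : Subgroup G) R ≤ E := MinSimple.VModule.zl_le hZE hE
  have h1 : (S : Subgroup G) ⊓ centralizer (E : Set G) = o2 R ⊓ centralizer (E : Set G) := by
    refine le_antisymm (le_inf ?_ inf_le_right) (inf_le_inf_right _ (hR.isLoc.o2_le S))
    rw [← IsParS.inf_centralizer S hG hR]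
    exact inf_le_inf_left _ (centralizer_le hVE)
  rw [h1]
  intro g hg
  apply mem_normalizer_of_cj_le
  rw [cj_inf, cj_centralizer, cj_eq_of_mem_normalizer (MinSimple.VModule.le_normalizer_o2 R hg),
    cj_eq_of_mem_normalizer (hE hg)]

/-- a common fixed point gives `C_Z(R) ≠ 1` -/
theorem fix_false (hR : IsParS (S : Subgroup G) R)
    (hcR : zc (S : Subgroup G) ⊓ centralizer (R : Set G) = ⊥) {E : Subgroup G} (hE : E ≤ (S : Subgroup G))
    (hE2 : ∀ z ∈ E, z ^ 2 = 1) (h : ∃ z ∈ E, z ≠ 1 ∧ ∀ g ∈ R, g * z = z * g) : False := by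
  obtain ⟨z, hz, hz1, hzR⟩ := h
  have h1 : z ∈ zc (S : Subgroup G) ⊓ centralizer (R : Set G) :=
    ⟨ChoiceBase.mem_zc.2 ⟨hE hz, hE2 z hz, fun s hs => hzR s (hR.le hs)⟩, mem_centralizer_iff.2 hzR⟩
  rw [hcR] at h1
  exact hz1 (mem_bot.1 h1)

/-- **`P` active of `F₂`-type at the level `K`: `R` is not passive.** -/
theorem pas (hG : IsCharacteristicTwoType G) (hP : IsParS (S : Subgroup G) P) (hR : IsParS (S : Subgroup G) R)
    (h2 : Two (S : Subgroup G) P)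
    (hcP : zc (S : Subgroup G) ⊓ centralizer (P : Set G) = ⊥)
    (hcR : zc (S : Subgroup G) ⊓ centralizer (R : Set G) = ⊥) (hL : Lev (S : Subgroup G) K)
    (hKP : K ≤ o2 P) (hnP : ¬ nxt (S : Subgroup G) K ≤ o2 P)
    (hnR : nxt (S : Subgroup G) K ≤ o2 R) : False := by
  have h := fra_lev_two hG hP hcP hL hKP hnP h2
  have hQS := hR.isLoc.o2_le S
  have hKR : K ≤ o2 R := (Level.le_nxt hL.le).trans hnR
  have hn1 := (hL.next.le_norm_of_o2 hnR hQS).trans (Level.normalizer_le_zc _)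
  have hZ : zc (S : Subgroup G) ≤ ZN.zc (nxt (S : Subgroup G) K) := hL.next.zc_le
  exact fix_false hR hcR ((MinSimple.VModule.zc_le _).trans (Level.nxt_le _ _))
    (fun z hz => (ChoiceBase.mem_zc.1 hz).2.1)
    (h.fix (norm_cent hG hR hZ hn1) ((hL.le_norm_of_o2 hKR hQS).trans (Level.normalizer_le_zc _)))

/-- **`P` active of `F₂`-type at stage `-1`: `R` is not passive.** -/
theorem pasJ (hG : IsCharacteristicTwoType G) (hF : ¬ FF (S : Subgroup G)) (hP : IsParS (S : Subgroup G) P)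
    (hR : IsParS (S : Subgroup G) R) (h2 : Two (S : Subgroup G) P)
    (hcP : zc (S : Subgroup G) ⊓ centralizer (P : Set G) = ⊥)
    (hcR : zc (S : Subgroup G) ⊓ centralizer (R : Set G) = ⊥)
    (hJP : ¬ jj (S : Subgroup G) ≤ o2 P) (hJR : jj (S : Subgroup G) ≤ o2 R) : False := by
  have hL := ThmB.Main.isLoc_sup hG hF hP hR
  have h := fra_J_two hG hP hcP hJP h2 (OneLine.zc_elem (o2 (P ⊔ R))) (zl_le_zc hG hL le_sup_left)
    (norm_zc_o2 le_sup_left)
  have hQS := hR.isLoc.o2_le S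
  have hL0 := Lev.zero (S : Subgroup G)
  have hn1 : R ≤ normalizer (zj (S : Subgroup G) : Set G) :=
    (hL0.le_norm_of_o2 hJR hQS).trans (Level.normalizer_le_zc _)
  have hZ : zc (S : Subgroup G) ≤ zj (S : Subgroup G) := hL0.zc_le
  exact fix_false hR hcR ((MinSimple.VModule.zc_le _).trans (ZN.jj_le _))
    (fun z hz => (ChoiceBase.mem_zc.1 hz).2.1)
    (h.fix (norm_cent hG hR hZ hn1) (norm_zc_o2 le_sup_right))

/-! ### The main theorem -/

/-- `|Z| = 2`: `C_Z(R) = 1` for all `R ∈ P*(S)`. -/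
theorem cen_bot (hZ2 : ∀ z ∈ zc (S : Subgroup G), ∀ z' ∈ zc (S : Subgroup G), z ≠ 1 → z' ≠ 1 → z = z')
    (hR : IsParS (S : Subgroup G) R) : zc (S : Subgroup G) ⊓ centralizer (R : Set G) = ⊥ := by
  by_contra hne
  obtain ⟨z, hz, hz1⟩ := ThmB.Main.exists_ne hne
  apply ThmB.Main.not_cent hR
  intro g hg
  rw [mem_centralizer_iff]
  intro z' hz'
  by_cases h1 : z' = 1
  · rw [h1, one_mul, mul_one]
  · rw [hZ2 z' hz' z hz.1 h1 hz1]
    exact (mem_centralizer_iff.1 hz.2 g hg).symm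

/-- UNIQ from a level. -/
theorem uniq_lev (hG : IsCharacteristicTwoType G) (hP : IsParS (S : Subgroup G) P)
    (hcP : zc (S : Subgroup G) ⊓ centralizer (P : Set G) = ⊥) (h2 : Two (S : Subgroup G) P)
    (hL : Lev (S : Subgroup G) K) (hK : ∀ R, IsParS (S : Subgroup G) R → K ≤ o2 R)
    (hn : ¬ nxt (S : Subgroup G) K ≤ o2 P) : Uniq (S : Subgroup G) P := by
  have hZ2 := h2.zc hG hP hcP
  have hc : ∀ R, IsParS (S : Subgroup G) R → zc (S : Subgroup G) ⊓ centralizer (R : Set G) = ⊥ :=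
    fun R hR => cen_bot hZ2 hR
  refine ⟨fun R hR => ?_, hc⟩
  by_cases hnR : nxt (S : Subgroup G) K ≤ o2 R
  · exact (pas hG hP hR h2 hcP (hc R hR) hL (hK P hP) hn hnR).elim
  · exact act hG hP hR hcP (hc R hR) hL (hK P hP) (hK R hR) hn hnR

/-- UNIQ from stage `-1`. -/
theorem uniq_J (hG : IsCharacteristicTwoType G) (hF : ¬ FF (S : Subgroup G)) (hP : IsParS (S : Subgroup G) P)
    (hcP : zc (S : Subgroup G) ⊓ centralizer (P : Set G) = ⊥) (h2 : Two (S : Subgroup G) P)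
    (hJ : ¬ jj (S : Subgroup G) ≤ o2 P) : Uniq (S : Subgroup G) P := by
  have hZ2 := h2.zc hG hP hcP
  have hc : ∀ R, IsParS (S : Subgroup G) R → zc (S : Subgroup G) ⊓ centralizer (R : Set G) = ⊥ :=
    fun R hR => cen_bot hZ2 hR
  refine ⟨fun R hR => ?_, hc⟩
  by_cases hnR : jj (S : Subgroup G) ≤ o2 R
  · exact (pasJ hG hF hP hR h2 hcP (hc R hR) hJ hnR).elim
  · exact actJ hG hF hP hR hcP (hc R hR) hJ hnR

/-- **UNIQ, `V_P` of `F₂`-type, every stage.** -/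
theorem uniq (h : HypL S P) (h2 : Two (S : Subgroup G) P) : Uniq (S : Subgroup G) P := by
  have hG := h.toHyp.ctx.char2
  rcases h.stage with hJ | ⟨n, hn, hn1⟩
  · exact uniq_J hG h.noFF h.toHyp.star h.toHyp.inf_eq_bot h2 hJ
  · exact uniq_lev hG h.toHyp.star h.toHyp.inf_eq_bot h2 (lev_isLev _ n) hn hn1

/-- natural modules over `F₂` -/
theorem uniq_nat (h : HypL S P) {F : Type} [Field F] [Finite F] [CharP F 2] {k : ℕ} (hk : 0 < k)
    (hF : Nat.card F = 2) (N : NatKM F (S : Subgroup G) P (zl (S : Subgroup G) P) (cv (S : Subgroup G) P) k) :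
    Uniq (S : Subgroup G) P := uniq h (Or.inl ⟨F, _, inferInstance, inferInstance, k, hk, hF, ⟨N⟩⟩)

/-- even-subset modules -/
theorem uniq_sym (h : HypL S P) {k m : ℕ} (hk : 0 < k) (hm : 2 ≤ m)
    (N : SymKM (S : Subgroup G) P (zl (S : Subgroup G) P) (cv (S : Subgroup G) P) k m) :
    Uniq (S : Subgroup G) P := uniq h (Or.inr ⟨k, m, hk, hm, ⟨N⟩⟩)

end Cfsg.Agent.Omega.NO3S.Level.UniqEnd
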