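import Cfsg.Agent.Omega.NO3S.Level.Uniq
import Cfsg.Agent.Omega.NO3S.OneLine.LevKOf
import Cfsg.Agent.Omega.OM.Lev.Sym
import Cfsg.Agent.Omega.OM.Lev.Exa
import Cfsg.Agent.Omega.OM.FrSym
import Cfsg.Agent.Omega.OM.FrNat
import Cfsg.Agent.Omega.OM.Line
import Cfsg.Agent.Omega.NO3S.FF

/-!
# The frames `FrL` of all members of `P*(S)` at all stages

* `Fra S P B X ZJ q` : some frame `FrL B (O₂(P)) V_P X ZJ .. q` exists; `Fra.eq`, `Fra.fix`;
* `toFrL` : a frame `Fr` at stage `-1` is a frame `FrL` for every `X ≥ V_P`, elementary abelian, normalised by the blocks;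
* `fra_nat`, `fra_sym` : stage `n` (a level `K ≤ O₂(P)`), all types, all `k ≥ 1`;
* `fra_J` : stage `-1`.
-/

set_option autoImplicit false
set_option linter.unusedSectionVars false

namespace Cfsg.Agent.Omega.NO3S.Level.UniqFr

open Subgroup Cfsg Cfsg.Agent.ZN Cfsg.Agent.ZN.ChoiceBase Cfsg.Agent.Omega.MinPar
open Cfsg.Agent.PLocal.ThompsonJ
open Cfsg.Agent.Omega.SQ1.Bau (elem_comm elem_sq card_sup_comm)
open Cfsg.Agent.Omega.NO3S.Level (Lev BO nxt)
open Cfsg.Agent.Omega.FFThm (NatKM SymKM NatK SymK OffM ElemM NoOverM StmtM ConclM)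
open Cfsg.Agent.Omega.FrameFF (cv)
open Cfsg.Agent.Omega.OM.Uni (Fr)
open Cfsg.Agent.PLocal.ElemAbSup
open Cfsg.Agent.Omega.OM.Lev.Uni (FrL Best)

universe u

variable {G : Type u} [Group G]

/-- A frame of `P` over `(B, X, ZJ)`. -/
def Fra (S P B X ZJ : Subgroup G) (q : ℕ) : Prop :=
  ∃ (ι : Type) (_ : Finite ι) (_ : Nonempty ι) (L W Z C A : ι → Subgroup G),
    FrL B (o2 P) (zl S P) X ZJ L W Z C A q

theorem Fra.eq [Finite G] {S P R B X ZJ ZJ' : Subgroup G} {q q' : ℕ} (h : Fra S P B X ZJ q) (h' : Fra S R B X ZJ' q') :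
    zl S R = zl S P := by
  obtain ⟨ι, _, _, L, W, Z, C, A, hF⟩ := h
  obtain ⟨ι', _, _, L', W', Z', C', A', hF'⟩ := h'
  exact Uniq.V_eq hF hF'

theorem Fra.fix [Finite G] {S P R B X ZJ : Subgroup G} (h : Fra S P B X ZJ 2) (hB : R ≤ normalizer (B : Set G))
    (hX : R ≤ normalizer (X : Set G)) : ∃ z ∈ ZJ, z ≠ 1 ∧ ∀ g ∈ R, g * z = z * g := by
  obtain ⟨ι, _, _, L, W, Z, C, A, hF⟩ := h
  exact Uniq.exists_fix hF hB hX

/-! ### Stage `-1` -/

/-- A frame at stage `-1` is a frame over every `X`. -/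
theorem toFrL [Finite G] {ι : Type*} {B Q V X ZJ : Subgroup G} {L W Z C A : ι → Subgroup G} {q m : ℕ}
    (h : Fr B Q V ZJ L W Z C A q m) (elX : IsElementaryAbelian 2 X) (VX : V ≤ X)
    (LX : ∀ i, ∀ l ∈ L i, ∀ x ∈ X, l * x * l⁻¹ ∈ X) : FrL B Q V X ZJ L W Z C A q where
  blk := h.blk
  cardZ := h.cardZ
  QB := h.QB
  VQ := h.VQ
  elX := elX
  VX := VX
  mem_Q := h.mem_Q
  zcQ := h.zcQ
  mem_ZJ := h.mem_ZJ
  LV := h.LV
  LQ := h.LQ
  LX := LX
  WV := h.WV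
  CV := h.CV
  WC := h.WC
  dir := h.dir
  C0 := h.C0
  WjC := h.WjC
  BC := h.BC
  LC := h.LC
  AB := h.AB
  AX := fun i => FFThm.ElemM.of_elem (h.Ael i)
  best := fun i F _ hFA => by
    have hA := h.Ael i
    have hF : IsElementaryAbelian 2 F := isElementaryAbelian_mono hA hFA
    have hXF : IsElementaryAbelian 2 (X ⊓ centralizer (F : Set G)) := isElementaryAbelian_mono elX inf_le_left
    have h1 := card_sup_comm (A := F) (B := X ⊓ centralizer (F : Set G)) fun a ha b hb =>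
      mem_centralizer_iff.1 hb.2 a ha
    have h2 : IsElementaryAbelian 2 (F ⊔ (X ⊓ centralizer (F : Set G))) :=
      isElementaryAbelian_sup hF hXF inf_le_right
    have h3 := h.max _ h2
    rw [← h.Am i] at h3
    have h4 : F ⊓ (X ⊓ centralizer (F : Set G)) ≤ X ⊓ centralizer (A i : Set G) := by
      rintro x ⟨hx, hxX, -⟩
      exact ⟨hxX, mem_centralizer_iff.2 fun a ha => elem_comm hA a ha x (hFA hx)⟩
    rw [← h1]
    exact Nat.mul_le_mul h3 (Subgroup.card_le_of_le h4)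
  Ane := h.Ane
  AC := h.AC

/-- natural modules at stage `-1` -/
theorem fra_natJ [Finite G] {S : Sylow 2 G} {P X : Subgroup G} (hG : IsCharacteristicTwoType G)
    (hP : IsParS (S : Subgroup G) P) (hcv : cv (S : Subgroup G) P = ⊥) (hJ : ¬ jj (S : Subgroup G) ≤ o2 P)
    {F : Type} [Field F] [Finite F] [CharP F 2] {k : ℕ} (hk : 0 < k)
    (N : NatK F (S : Subgroup G) P (zl (S : Subgroup G) P) (cv (S : Subgroup G) P) k)
    (elX : IsElementaryAbelian 2 X) (VX : zl (S : Subgroup G) P ≤ X) (hX : P ≤ normalizer (X : Set G)) :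
    Fra (S : Subgroup G) P (bau (S : Subgroup G)) X (zj (S : Subgroup G)) (Nat.card F) := by
  have hne : Nonempty (Fin k) := ⟨⟨0, hk⟩⟩
  have hS : ChoiceSit.Syl (S : Subgroup G) P := OneLine.syl_of hP
  obtain ⟨L, Z, A, hL, -, -, -, hF⟩ := OM.Uni.natFr hS hP.toIsMinPar (hP.isLoc.char2 S hG) hJ hk N hcv
    (OM.Uni.mx_sylow S)
  exact ⟨Fin k, inferInstance, hne, L, _, Z, _, A, toFrL hF elX VX fun i l hl x hx =>
    (mem_normalizer_iff.1 (hX (hL i hl).1) x).1 hx⟩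

/-- symmetric modules at stage `-1` -/
theorem fra_symJ [Finite G] {S : Sylow 2 G} {P X : Subgroup G} (hG : IsCharacteristicTwoType G)
    (hP : IsParS (S : Subgroup G) P) (hcv : cv (S : Subgroup G) P = ⊥) (hJ : ¬ jj (S : Subgroup G) ≤ o2 P)
    {k m : ℕ} (hk : 0 < k) (hm : 1 ≤ m)
    (N : SymK (S : Subgroup G) P (zl (S : Subgroup G) P) (cv (S : Subgroup G) P) k m)
    (elX : IsElementaryAbelian 2 X) (VX : zl (S : Subgroup G) P ≤ X) (hX : P ≤ normalizer (X : Set G)) :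
    Fra (S : Subgroup G) P (bau (S : Subgroup G)) X (zj (S : Subgroup G)) 2 := by
  have hS : ChoiceSit.Syl (S : Subgroup G) P := OneLine.syl_of hP
  obtain ⟨ι, J, U, Y, t, r, h0, -, h2⟩ := OM.symOut hS hP.toIsMinPar (hP.isLoc.char2 S hG) hJ hk hm N hcv
  obtain ⟨L, A, hL, hc, hA, hF⟩ := OM.FrSym.symFr h2 (OM.Uni.mx_sylow S)
  have hfin : Finite ι := h2.bau.finite_index
  exact ⟨ι, hfin, h2.ne, L, _, _, _, A, toFrL hF elX VX fun i l hl x hx =>
    (mem_normalizer_iff.1 (hX ((hL i).LH h2.bau hl)) x).1 hx⟩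

/-! ### The levels -/

section lev

variable [Finite G] {S : Sylow 2 G} {P K : Subgroup G}

/-- natural modules at a level -/
theorem fra_nat (hG : IsCharacteristicTwoType G) (hP : IsParS (S : Subgroup G) P)
    (hcen : zc (S : Subgroup G) ⊓ centralizer (P : Set G) = ⊥) (hL : Lev (S : Subgroup G) K) (hK : K ≤ o2 P)
    (hJ : ∃ A ∈ BO (S : Subgroup G) K, ¬ A ≤ o2 P) {F : Type} [Field F] [Finite F] [CharP F 2] {k : ℕ} (hk : 0 < k)
    (N : NatKM F (S : Subgroup G) P (zl (S : Subgroup G) P) (cv (S : Subgroup G) P) k) :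
    Fra (S : Subgroup G) P ((S : Subgroup G) ⊓ centralizer ((zc (nxt (S : Subgroup G) K) : Subgroup G) : Set G))
      (zc K) (zc (nxt (S : Subgroup G) K)) (Nat.card F) := by
  classical
  have hne : Nonempty (Fin k) := ⟨⟨0, hk⟩⟩
  obtain ⟨E, -⟩ := NO3S.OneLine.exa_lev FF.Glob.ffthmM hG hP hL hK hcen hJ
  have hZJ : ∀ v, v ∈ zc (nxt (S : Subgroup G) K) ↔
      v ∈ zl (S : Subgroup G) P ∧ ∀ i, N.e v i 1 = 0 := by
    intro v
    have h1 := E.cent_nat N hk (x := v)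
    rw [NO3S.OneLine.zc_nxt_eq hL]
    exact h1
  have wc := OM.Lev.Wc.wc_cent_Lev (S := S) hL.next rfl
  have SZJ := OM.Lev.Wc.S_norm_Lev (S := S) hL.next
  have H := OM.Lev.Exa.hy_of E N hk rfl hZJ wc SZJ
  choose A hA hAX hAb hA1 hA2 using OM.Lev.Exa.exists_one E N hk
  obtain ⟨L, Z, A', hL1, hA', hL2, hZ, hF⟩ := H.frL E.elem E.VX E.norm fun i =>
    ⟨A i, hA i, hAX i, hAb i, hA1 i, hA2 i⟩
  exact ⟨Fin k, inferInstance, hne, L, _, Z, _, A', hF⟩

/-- symmetric modules at a level -/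
theorem fra_sym (hG : IsCharacteristicTwoType G) (hP : IsParS (S : Subgroup G) P)
    (hcen : zc (S : Subgroup G) ⊓ centralizer (P : Set G) = ⊥) (hL : Lev (S : Subgroup G) K) (hK : K ≤ o2 P)
    (hJ : ∃ A ∈ BO (S : Subgroup G) K, ¬ A ≤ o2 P) {k m : ℕ} (hk : 0 < k) (hm : 2 ≤ m)
    (N : SymKM (S : Subgroup G) P (zl (S : Subgroup G) P) (cv (S : Subgroup G) P) k m) :
    Fra (S : Subgroup G) P ((S : Subgroup G) ⊓ centralizer ((zc (nxt (S : Subgroup G) K) : Subgroup G) : Set G))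
      (zc K) (zc (nxt (S : Subgroup G) K)) 2 := by
  obtain ⟨ι, hι, W, d, t, r, Lb, A, h1, -, -, -, -, hF⟩ := OM.Lev.Sym.exists_sym_lev FF.Glob.ffthmM hG hP hL hK hcen
    hJ hk hm N
  exact ⟨ι, hι, h1.ne, Lb, W, _, _, A, hF⟩

end lev

end Cfsg.Agent.Omega.NO3S.Level.UniqFr
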