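import Cfsg.Agent.Omega.NO3b.FPB.Cen
import Cfsg.Agent.Omega.NO3b.EZeroPair

/-!
# UNIQ for `|Ω₁(Z(T))| = 2`, ground level

`T` a 2-group, `Y ≤ T` elementary abelian, `H₁, H₂` minimal parabolics over `T` of characteristic 2 which
normalise `Y`, `V_i = ⟨Ω₁(Z(T))^{H_i}⟩ ≤ Y`, `J(T) ≰ O₂(H_i)`, `|Ω₁(Z(T))| = 2`, `C_Y(J(T)) ≤ V₁`.
Then `V₂ ≤ V₁` (`core`).

The proof is 526's CLAIM (FPB, #16134): for blocks `(L,V)`, `(L',V')` over `B(T)` with `C_B(V) ≠ C_B(V')`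
`[V',B] ≤ C(L)`.
-/

set_option autoImplicit false
set_option linter.unusedSectionVars false

namespace Cfsg.Agent.Omega.NO3S.Level.UniqTwo

open Subgroup Cfsg Cfsg.Agent.PLocal.ThompsonJ Cfsg.Agent.ZN Cfsg.Agent.ZN.ChoiceBase
open Cfsg.Agent.ZN.ChoiceSit
open Cfsg.Agent.Omega.SQ1.Bau (elem_comm elem_sq mem_sup_comm Mv)
open Cfsg.Agent.Omega.SQ1.BauK.InK (QL mem_QL)
open Cfsg.Agent.Omega.NO3b.FPB.Base Cfsg.Agent.Omega.NO3b.FPB.Claim Cfsg.Agent.Omega.NO3b.FPB.CaseTwo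
open Cfsg.Agent.Omega.NO3b.FPB
open Cfsg.Agent.Omega.SQ1.FFOne (MinH minH_of exists_inK)
open Cfsg.Agent.Omega.SQ1.VOf (zl_norm cent_norm)
open Cfsg.Agent.Omega.FrameFF (cv)
open Cfsg.Agent.MinSimple.MinParabolic (IsMinPar)
open Cfsg.Agent.MinSimple.VModule (oddGen oddGen_le zc_le_zl)

universe u

variable {G : Type u} [Group G]

/-- A nontrivial `T`-invariant subgroup of `T` contains `Ω₁(Z(T))`, if this has order 2. -/
theorem zc_le_of [Finite G] {T D : Subgroup G} (h2 : IsPGroup 2 T) (hZ : Nat.card (zc T) = 2)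
    (hDT : D ≤ T) (hDe : ∀ d ∈ D, d ^ 2 = 1) (hTD : T ≤ normalizer (D : Set G)) (hD : D ≠ ⊥) :
    zc T ≤ D := by
  have : Fact (Nat.Prime 2) := ⟨Nat.prime_two⟩
  have h6 := Cfsg.Agent.PLocal.OffenderStep.inf_centralizer_ne_bot D T (h2.to_le hDT) h2 hTD hD
  obtain ⟨x, hx, hx1⟩ := (Subgroup.bot_or_exists_ne_one _).resolve_left h6
  obtain ⟨hxD, hxc⟩ := mem_inf.1 hx
  have hxZ : x ∈ zc T := ChoiceBase.mem_zc.2 ⟨hDT hxD, hDe x hxD, fun y hy => mem_centralizer_iff.1 hxc y hy⟩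
  have h7 : zpowers x = zc T := by
    refine Subgroup.eq_of_le_of_card_ge (zpowers_le.2 hxZ) ?_
    rw [hZ, Nat.card_zpowers]
    have h8 : orderOf x ≠ 1 := fun h => hx1 (orderOf_eq_one_iff.1 h)
    have h9 : 0 < orderOf x := orderOf_pos x
    omega
  rw [← h7]
  exact zpowers_le.2 hxD

/-- `C_Y(P) = V C_Y(B)`, elementwise. -/
theorem cW_P [Finite G] {S Y L V : Subgroup G} (k : Bk S Y L V) (hY : IsElementaryAbelian 2 Y) (hYS : Y ≤ S) :
    ∀ v ∈ cW Y (QL S V), ∃ v1 ∈ V, ∃ c ∈ cW Y (bau S), v = v1 * c := by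
  obtain ⟨A, hA, hAP⟩ := k.off
  obtain ⟨-, h2, h3, -⟩ := k.order hY hYS k.VY le_rfl ((BB.self Y A).star hA hYS hY) hAP
  intro v hv
  have h4 : v ∈ V ⊔ cW Y A := by
    rw [← h3]; exact cW_anti Y inf_le_right hv
  obtain ⟨v1, hv1, c, hc, rfl⟩ := mem_sup_comm
    (fun a ha b hb => elem_comm hY a (k.VY ha) b (cW_le Y A hb)) h4
  refine ⟨v1, hv1, c, mem_cW.2 ⟨cW_le Y A hc, fun e he => ?_⟩, rfl⟩
  obtain ⟨a, ha, p, hp, rfl⟩ := h2 e he
  have hpc : p * c = c * p := by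
    have h5 := (mem_cW.1 hv).2 p hp
    have h6 : p * v1 = v1 * p := Bk.P_cent hp hv1
    have h7 : p * (v1 * c) = v1 * (p * c) := by rw [← mul_assoc, h6]; group
    rw [h7, mul_assoc v1 c p] at h5
    exact mul_left_cancel h5
  have hac := (mem_cW.1 hc).2 a ha
  calc a * p * c = a * (p * c) := by group
    _ = (a * c) * p := by rw [hpc]; group
    _ = c * (a * p) := by rw [hac]; group

/-- The Baumann blocks of a minimal parabolic `H` over `T` which generate `V = zl T H`. -/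
def Blocks (T H : Subgroup G) : Prop :=
  ∃ (ι : Type) (L N : ι → Subgroup G), Nonempty ι ∧
    (∀ i, L i ≤ H ∧ N i ≤ zl T H ∧
      ∀ Y : Subgroup G, N i ≤ Y → L i ≤ normalizer (Y : Set G) → Bk T Y (L i) (N i)) ∧
    ∀ W : Subgroup G, (∀ i, N i ≤ W) → cv T H ≤ W → zl T H ≤ W

theorem blocks_nat [Finite G] {H T Q : Subgroup G} {ι : Type} [Nonempty ι] {N A : ι → Subgroup G} {q : ℕ}
    (h : SQ1.BauK.InK H T Q (zl T H) (cv T H) N A q) : Blocks T H := by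
  choose L k using fun i => h.exists_blk i
  refine ⟨ι, L, fun i => OfInK.N0 N i (L i), inferInstance, fun i => ⟨(k i).LH h,
    (OfInK.N0_le (k i) h).trans (h.NV i), fun Y hVY hLY => OfInK.bk (k i) h hVY hLY⟩, fun W hW hc => ?_⟩
  refine h.Nsup.trans (iSup_le fun i => ?_)
  rw [← OfInK.N_eq (k i) h]
  exact sup_le (hW i) hc

theorem blocks_sym [Finite G] {H T Q : Subgroup G} {ι : Type} [Nonempty ι] {N : ι → Subgroup G}
    {d t r : ι → G} (hZ : Nat.card (zc T) = 2)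
    (h : SQ1.BauS.In H T Q (zl T H) N d t r) : Blocks T H := by
  choose L k using fun i => h.exists_blk i
  refine ⟨ι, L, N, inferInstance, fun i => ⟨(k i).LP.trans (h.PP_le i), h.NV i,
    fun Y hVY hLY => OfS.bk (k i) h hVY hLY⟩, fun W hW _ => ?_⟩
  refine le_trans ?_ (iSup_le hW)
  -- `D = ⨆ N i` is normalised by `H`
  set D : Subgroup G := ⨆ i, N i with hD
  obtain ⟨i⟩ := (inferInstance : Nonempty ι)
  have hDV : D ≤ zl T H := iSup_le h.NV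
  have hDT : D ≤ T := (hDV.trans h.VQ).trans h.QT
  have hTD : T ≤ normalizer (D : Set G) := by
    intro x hx
    refine mem_normalizer_of_cj_le ?_
    rw [cj_le_iff]
    refine iSup_le fun j => ?_
    obtain ⟨l, -, hl⟩ := h.perm x hx j
    intro v hv
    rw [mem_cj]
    have := (le_iSup N l) (hl v hv)
    rwa [inv_inv]
  have hrD : r i ∈ normalizer (D : Set G) := by
    refine mem_normalizer_of_cj_le ?_
    rw [cj_le_iff]
    intro v hv
    rw [mem_cj, inv_inv]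
    have h1 : r i * v * (r i)⁻¹ * v⁻¹ ∈ D := (le_iSup N i) (h.r_comm i v (hDV hv))
    have h2 := mul_mem h1 hv
    rwa [inv_mul_cancel_right] at h2
  have hHD : H ≤ normalizer (D : Set G) := by
    have h1 := h.max (H ⊓ normalizer (D : Set G)) (le_inf h.TH hTD) inf_le_left i
      ⟨r i, ⟨h.rH i, hrD⟩, fun v _ => rfl⟩
    exact h1.trans inf_le_right
  have hDne : D ≠ ⊥ := by
    intro h0
    apply h.d1 i
    have h1 : d i ∈ D := (le_iSup N i) (h.dN i)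
    rwa [h0, mem_bot] at h1
  exact ZN.zl_le (zc_le_of h.Tp hZ hDT (fun x hx => h.Vsq x (hDV hx)) hTD hDne) hHD

/-- The FF theorem gives the blocks. -/
theorem blocks_of [Finite G] (hFF : FFThm.Stmt.{u}) {T X : Subgroup G} (hT : Syl T X)
    (hP : IsMinPar T X) (hc : X ⊓ centralizer (o2 X : Set G) ≤ o2 X) (hJ : ¬ jj T ≤ o2 X)
    (hne : (X ⊓ centralizer (zl T X : Set G)) ⊔ T ≠ X) (hZ : Nat.card (zc T) = 2) : Blocks T X := by
  have hm := minH_of hT hP hc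
  obtain ⟨A, hA, hoff⟩ := SymIn.exists_off hm hne hJ
  obtain ⟨hno, ⟨F, _, _, _, k, hk, ⟨N⟩⟩ | ⟨k, m, hk, hm2, ⟨N⟩⟩⟩ :=
    hFF G T X hT hP hc ⟨A, hA.2.1.trans hT.1, hoff⟩
  · obtain ⟨N', E, h⟩ := exists_inK hT hP hc hJ hk N
    have : Nonempty (Fin k) := ⟨⟨0, hk⟩⟩
    exact blocks_nat h
  · obtain ⟨ι, N', d, t, r, hι, h, -⟩ := SymIn.main hm hJ hno hk (by omega) N
    exact blocks_sym hZ h

/-- `C_V(O²(H)) = 1` if `|Ω₁(Z(T))| = 2`. -/
theorem cv_eq_bot [Finite G] {T H : Subgroup G} (hT : Syl T H)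
    (hVT : zl T H ≤ T) (hVe : ∀ v ∈ zl T H, v ^ 2 = 1)
    (hne : (H ⊓ centralizer (zl T H : Set G)) ⊔ T ≠ H) (hZ : Nat.card (zc T) = 2) : cv T H = ⊥ := by
  by_contra h0
  have hTn : T ≤ normalizer (cv T H : Set G) := by
    intro t ht
    refine mem_normalizer_of_cj_le ?_
    unfold cv
    rw [cj_inf, cj_centralizer, cj_eq_of_mem_normalizer (ZN.le_normalizer_zl T H (hT.1 ht)),
      cj_eq_of_mem_normalizer (MinSimple.VModule.le_normalizer_oddGen H (hT.1 ht))]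
  have h1 := zc_le_of hT.2.1 hZ (inf_le_left.trans hVT) (fun d hd => hVe d (mem_inf.1 hd).1) hTn h0
  have h3 : H ≤ centralizer (zc T : Set G) := by
    rw [← NO3b.EZero.oddGen_sup_syl hT]
    refine sup_le ?_ ?_
    · rw [le_centralizer_iff]
      exact h1.trans inf_le_right
    · exact MinSimple.VModule.le_centralizer_zc T
  have h4 : zl T H ≤ zc T := ZN.zl_le le_rfl (h3.trans (centralizer_le_normalizer _))
  apply hne
  refine le_antisymm (sup_le inf_le_left hT.1) (le_trans (le_inf le_rfl ?_) le_sup_left)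
  exact h3.trans (centralizer_le h4)

/-- **UNIQ, `|Ω₁(Z(T))| = 2`**, one inclusion, blocks as input. -/
theorem core_blocks [Finite G] {T H₁ H₂ Y : Subgroup G} (h2 : IsPGroup 2 T)
    (hY : IsElementaryAbelian 2 Y) (hYT : Y ≤ T) (hTY : T ≤ normalizer (Y : Set G))
    (hH1 : H₁ ≤ normalizer (Y : Set G)) (hH2 : H₂ ≤ normalizer (Y : Set G)) (hT1 : T ≤ H₁)
    (hV1 : zl T H₁ ≤ Y) (hV2 : zl T H₂ ≤ Y) (hB1 : Blocks T H₁) (hB2 : Blocks T H₂)
    (hZ : Nat.card (zc T) = 2) (hc2 : cv T H₂ ≤ zl T H₁)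
    (hT6 : Y ⊓ centralizer (jj T : Set G) ≤ zl T H₁) : zl T H₂ ≤ zl T H₁ := by
  obtain ⟨ι₁, L₁, N₁, ⟨i₁⟩, hb1, -⟩ := hB1
  obtain ⟨ι₂, L₂, N₂, -, hb2, hgen⟩ := hB2
  refine hgen _ (fun i => ?_) hc2
  obtain ⟨hL1, hN1, hk1⟩ := hb1 i₁
  obtain ⟨hL2, hN2, hk2⟩ := hb2 i
  have k1 := hk1 Y (hN1.trans hV1) (hL1.trans hH1)
  have k2 := hk2 Y (hN2.trans hV2) (hL2.trans hH2)
  have hsT : ∀ s ∈ T, cj s T = T := fun s hs => cj_eq_of_mem_normalizer (le_normalizer hs)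
  have hsY : ∀ s ∈ T, cj s Y = Y := fun s hs => cj_eq_of_mem_normalizer (hTY hs)
  have hk : ∀ s ∈ T, Bk T Y (cj s (L₁ i₁)) (cj s (N₁ i₁)) := by
    intro s hs
    have := Bk.conj k1 (g := s) (hsY s hs)
    rwa [hsT s hs] at this
  -- some `T`-conjugate of the block of `H₁` has the same kernel
  obtain ⟨s, hs, hQ⟩ : ∃ s ∈ T, QL T (cj s (N₁ i₁)) = QL T (N₂ i) := by
    by_contra hcon
    push Not at hcon
    let X : Set G := {x | ∃ s ∈ T, ∃ b ∈ bau T, ∃ v ∈ cj s (N₁ i₁), x = b * v * b⁻¹ * v⁻¹}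
    have hXL : closure X ≤ centralizer (L₂ i : Set G) := by
      rw [closure_le]
      rintro x ⟨s, hs, b, hb, v, hv, rfl⟩
      exact claim hY hYT k2 (hk s hs) (hcon s hs).symm b hb v hv
    have hXY : closure X ≤ Y := by
      rw [closure_le]
      rintro x ⟨s, hs, b, hb, v, hv, rfl⟩
      have hvY := (hk s hs).VY hv
      exact mul_mem ((mem_normalizer_iff.1 (hTY (ChoiceBase.bau_le T hb)) v).1 hvY) (inv_mem hvY)
    have hTX : T ≤ normalizer ((closure X : Subgroup G) : Set G) := by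
      intro t ht
      refine mem_normalizer_of_cj_le ?_
      rw [cj, MonoidHom.map_closure, closure_le]
      rintro _ ⟨x, ⟨s, hs, b, hb, v, hv, rfl⟩, rfl⟩
      refine subset_closure ⟨t * s, mul_mem ht hs, t * b * t⁻¹, ?_, t * v * t⁻¹, ?_, ?_⟩
      · exact (mem_normalizer_iff.1 (normalizer_le_bau T (le_normalizer ht)) b).1 hb
      · rw [← cj_cj]
        exact conj_mem_cj hv
      · simp only [MulEquiv.toMonoidHom_eq_coe, MonoidHom.coe_coe, MulAut.conj_apply]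
        group
    have hXne : closure X ≠ ⊥ := by
      intro h0
      obtain ⟨A, hA, hAQ⟩ := k1.off
      apply hAQ
      intro a ha
      have haB : a ∈ bau T := ChoiceBase.jj_le_bau T (le_jj hA ha)
      refine mem_QL.2 ⟨haB, fun v hv => ?_⟩
      have h1 : a * v * a⁻¹ * v⁻¹ ∈ closure X :=
        subset_closure ⟨1, one_mem _, a, haB, v, by rw [cj_one]; exact hv, rfl⟩
      rw [h0, mem_bot] at h1
      exact comm_iff.2 h1
    have h3 := zc_le_of h2 hZ (hXY.trans hYT) (fun d hd => elem_sq hY d (hXY hd)) hTX hXne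
    obtain ⟨y, hyY, -, hys, l, hl, hne⟩ := Main.exists_fix h2 hY hYT hTY k2
    have h4 : y ∈ zc T := ChoiceBase.mem_zc.2 ⟨hYT hyY, elem_sq hY y hyY, hys⟩
    exact hne (mem_centralizer_iff.1 (hXL (h3 h4)) l hl)
  -- `N₂ ≤ C_Y(P) = N₁^s C_Y(B)`
  intro v hv
  have h5 : v ∈ cW Y (QL T (cj s (N₁ i₁))) := by
    rw [hQ]
    exact mem_cW.2 ⟨k2.VY hv, fun p hp => Bk.P_cent hp hv⟩
  obtain ⟨v1, hv1, c, hc, rfl⟩ := cW_P (hk s hs) hY hYT v h5
  refine mul_mem ?_ (hT6 ?_)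
  · have h6 := cj_mono s hN1 hv1
    rwa [cj_eq_of_mem_normalizer (ZN.le_normalizer_zl T H₁ (hT1 hs))] at h6
  · exact ⟨cW_le _ _ hc, mem_centralizer_iff.2 fun a ha => (mem_cW.1 hc).2 a (ChoiceBase.jj_le_bau T ha)⟩

/-- **UNIQ, `|Ω₁(Z(T))| = 2`, ground level.** -/
theorem core [Finite G] (hFF : FFThm.Stmt.{u}) {T H₁ H₂ Y : Subgroup G}
    (hY : IsElementaryAbelian 2 Y) (hYT : Y ≤ T)
    (hH1 : H₁ ≤ normalizer (Y : Set G)) (hH2 : H₂ ≤ normalizer (Y : Set G))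
    (hT1 : Syl T H₁) (hP1 : IsMinPar T H₁) (hc1 : H₁ ⊓ centralizer (o2 H₁ : Set G) ≤ o2 H₁)
    (hJ1 : ¬ jj T ≤ o2 H₁) (hne1 : (H₁ ⊓ centralizer (zl T H₁ : Set G)) ⊔ T ≠ H₁)
    (hT2 : Syl T H₂) (hP2 : IsMinPar T H₂) (hc2 : H₂ ⊓ centralizer (o2 H₂ : Set G) ≤ o2 H₂)
    (hJ2 : ¬ jj T ≤ o2 H₂) (hne2 : (H₂ ⊓ centralizer (zl T H₂ : Set G)) ⊔ T ≠ H₂)
    (hV1 : zl T H₁ ≤ Y) (hV2 : zl T H₂ ≤ Y) (hZ : Nat.card (zc T) = 2)
    (hT6 : Y ⊓ centralizer (jj T : Set G) ≤ zl T H₁) : zl T H₂ ≤ zl T H₁ := by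
  refine core_blocks hT1.2.1 hY hYT (hT1.1.trans hH1) hH1 hH2 hT1.1 hV1 hV2
    (blocks_of hFF hT1 hP1 hc1 hJ1 hne1 hZ) (blocks_of hFF hT2 hP2 hc2 hJ2 hne2 hZ) hZ ?_ hT6
  rw [cv_eq_bot hT2 (hV2.trans hYT) (fun v hv => elem_sq hY v (hV2 hv)) hne2 hZ]
  exact bot_le

end Cfsg.Agent.Omega.NO3S.Level.UniqTwo
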